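/- S3235, disconnected case, `p = 5`: the 2-group `(Q₈ ∘ T) ⟨s⟩`. -/
import Mathlib
import Cfsg.Agent.TECH.Conj

set_option autoImplicit false
set_option linter.unusedSectionVars false

namespace CL.Cq

open Subgroup CL.MSS

variable {G : Type*} [Group G] [Finite G]

/-- `R = (⟨u, m⟩ ∘ T) ⟨s⟩` -/
structure Loc (R T : Subgroup G) (z u m s : G) : Prop where
  pg : IsPGroup 2 R
  TR : T ≤ R
  uR : u ∈ R
  mR : m ∈ R
  sR : s ∈ R
  zT : z ∈ T
  uu : u * u = z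
  zz : z * z = 1
  z1 : z ≠ 1
  mm : m * m = z
  mu : m * u * m⁻¹ = u⁻¹
  ss : s * s = 1
  su : s * u * s⁻¹ = u⁻¹
  sm : s * m * s⁻¹ = u * m
  uT : u ∉ T
  sT : s ∉ T
  cu : ∀ w ∈ T, Commute u w
  cm : ∀ w ∈ T, Commute m w
  cz : ∀ r ∈ R, Commute z r
  nT : ∀ w ∈ T, s * w * s⁻¹ ∈ T
  dec : ∀ r ∈ R, ∃ i j l : ℕ, i ≤ 1 ∧ j ≤ 1 ∧ l ≤ 1 ∧ ∃ w ∈ T, r = u ^ i * m ^ j * w * s ^ l
  cen : ∀ w ∈ T, Commute w s → w = 1 ∨ w = z

theorem Loc.zp2 {g k : G} (h : g * g = 1) (hk : k ∈ zpowers g) : k = 1 ∨ k = g := by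
  obtain ⟨n, rfl⟩ := mem_zpowers_iff.1 hk
  rw [zpow_eq_zpow_emod' n (show g ^ 2 = 1 by rwa [sq])]
  rcases Int.emod_two_eq_zero_or_one n with e | e <;> simp [e]

theorem Loc.zp4 {g k : G} (h : g * g * (g * g) = 1) (hk : k ∈ zpowers g) :
    k = 1 ∨ k = g * g ∨ k = g ∨ k = g * (g * g) := by
  obtain ⟨n, rfl⟩ := mem_zpowers_iff.1 hk
  rw [zpow_eq_zpow_emod' n (show g ^ 4 = 1 by rw [← h]; simp [pow_succ, mul_assoc])]
  have : n % (4 : ℕ) = 0 ∨ n % (4 : ℕ) = 1 ∨ n % (4 : ℕ) = 2 ∨ n % (4 : ℕ) = 3 := by omega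
  rcases this with e | e | e | e <;> rw [e]
  · exact Or.inl (zpow_zero g)
  · exact Or.inr (Or.inr (Or.inl (zpow_one g)))
  · exact Or.inr (Or.inl (zpow_two g))
  · exact Or.inr (Or.inr (Or.inr (by rw [zpow_ofNat]; simp [pow_succ, mul_assoc])))

namespace Loc

variable {R T : Subgroup G} {z u m s : G} (h : Loc R T z u m s)
include h

theorem si : s⁻¹ = s := inv_eq_of_mul_eq_one_right h.ss
theorem zi : z⁻¹ = z := inv_eq_of_mul_eq_one_right h.zz
theorem zR : z ∈ R := h.TR h.zT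
theorem su' : s * u = u⁻¹ * s := by rw [← h.su]; group
theorem sm' : s * m = u * m * s := by rw [← h.sm]; group
theorem mu' : m * u = u⁻¹ * m := by rw [← h.mu]; group
theorem usu : u * s * u⁻¹ = z * s := by
  have e : s * u⁻¹ = u * s := by
    rw [← h.su]
    calc s * (s * u * s⁻¹) = s * s * u * s⁻¹ := by group
      _ = u * s := by rw [h.ss, h.si, one_mul]
  rw [mul_assoc, e, ← h.uu, mul_assoc]
theorem msm : m * s * m⁻¹ = u⁻¹ * s := by
  have := h.sm'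
  calc m * s * m⁻¹ = u⁻¹ * (u * m * s) * m⁻¹ := by group
    _ = u⁻¹ * s := by rw [← this]; group

theorem cmT {w : G} (hw : w ∈ T) : w * s * w⁻¹ * s⁻¹ ∈ T := by
  have := mul_mem hw (h.nT _ (inv_mem hw))
  simpa only [mul_assoc] using this

/-- the normaliser condition -/
theorem grow {U : Subgroup G} (UT : U ≤ T) (nU : ∀ w ∈ U, s * w * s⁻¹ ∈ U) (ne : ¬ T ≤ U) :
    ∃ w ∈ T, w ∉ U ∧ w * s * w⁻¹ * s⁻¹ ∈ U := by
  have : Fact (Nat.Prime 2) := ⟨Nat.prime_two⟩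
  have nn : ∀ {X : Subgroup G}, (∀ w ∈ X, s * w * s⁻¹ ∈ X) → zpowers s ≤ normalizer (X : Set G) :=
    fun q => zpowers_le.2 (mem_normalizer_of_cj_le (cj_le_iff_forall.2 q))
  have inf : ∀ w ∈ T, w ∈ U ⊔ zpowers s → w ∈ U := fun w hw q => by
    obtain ⟨a, ha, b, hb, rfl⟩ := (mem_sup_of_normalizes_left (nn nU)).1 q
    rcases zp2 h.ss hb with rfl | rfl
    · simpa using ha
    · exact (h.sT ((mul_mem_cancel_left (UT ha)).1 hw)).elim
  have lt : U ⊔ zpowers s < T ⊔ zpowers s := lt_of_le_of_ne (sup_le_sup_right UT _)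
    fun e => ne fun w hw => inf w hw (e ▸ mem_sup_left hw)
  obtain ⟨n, ⟨hn, nN⟩, nV⟩ := SetLike.exists_of_lt
    (lt_inf_normalizer_of_lt (h.pg.to_le (sup_le h.TR (zpowers_le.2 h.sR))) lt)
  obtain ⟨w, hw, b, hb, rfl⟩ := (mem_sup_of_normalizes_left (nn h.nT)).1 hn
  have bV : b ∈ U ⊔ zpowers s := mem_sup_right hb
  have wN := (mul_mem_cancel_right (le_normalizer bV)).1 nN
  have sV : s ∈ U ⊔ zpowers s := mem_sup_right (mem_zpowers s)
  exact ⟨w, hw, fun q => nV (mul_mem (mem_sup_left q) bV),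
    inf _ (h.cmT hw) (mul_mem (conj_mem_of_normalizes le_rfl wN sV) (inv_mem sV))⟩

theorem ex1 (big : ∃ w ∈ T, w ≠ 1 ∧ w ≠ z) : ∃ w ∈ T, w * s * w⁻¹ = z * s := by
  obtain ⟨w, hw, n, q⟩ := h.grow (zpowers_le.2 h.zT) (fun w hw => by
      rcases zp2 h.zz hw with rfl | rfl
      · simp
      · rw [← (h.cz s h.sR).eq]; simp)
    fun q => by
      obtain ⟨w, hw, a, b⟩ := big
      exact (zp2 h.zz (q hw)).elim a b
  refine ⟨w, hw, ?_⟩
  rcases zp2 h.zz q with e | e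
  · rw [mul_inv_eq_one, mul_inv_eq_iff_eq_mul] at e
    rcases h.cen w hw e with rfl | rfl
    · exact (n (one_mem _)).elim
    · exact (n (mem_zpowers _)).elim
  · rw [← e]; group

variable {w₁ : G} (h1 : w₁ ∈ T) (e1 : w₁ * s * w₁⁻¹ = z * s)
include h1 e1

theorem same {w : G} (hw : w ∈ T) (e : w * s * w⁻¹ = z * s) : w = w₁ ∨ w = w₁ * z := by
  rcases h.cen (w₁⁻¹ * w) (mul_mem (inv_mem h1) hw) (by
    show w₁⁻¹ * w * s = s * (w₁⁻¹ * w)
    calc w₁⁻¹ * w * s = w₁⁻¹ * (w * s * w⁻¹) * w := by group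
      _ = s * (w₁⁻¹ * w) := by rw [e, ← e1]; group) with q | q
  · exact Or.inl (inv_mul_eq_one.1 q).symm
  · exact Or.inr (by rw [← q]; group)

theorem sq1 : w₁ * w₁ = 1 ∨ w₁ * w₁ = z := h.cen _ (mul_mem h1 h1) (by
  show w₁ * w₁ * s = s * (w₁ * w₁)
  have c := (h.cz w₁ (h.TR h1)).eq
  calc w₁ * w₁ * s = w₁ * (w₁ * s * w₁⁻¹) * w₁ := by group
    _ = w₁ * z * s * w₁ := by rw [e1]; group
    _ = z * (w₁ * s * w₁⁻¹) * w₁ * w₁ := by rw [← c]; group
    _ = z * z * s * (w₁ * w₁) := by rw [e1]; group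
    _ = s * (w₁ * w₁) := by rw [h.zz, one_mul])

theorem cs : Commute (u * w₁) s := by
  show u * w₁ * s = s * (u * w₁)
  have c := (h.cz u h.uR).eq
  calc u * w₁ * s = u * (w₁ * s * w₁⁻¹) * w₁ := by group
    _ = u * z * s * w₁ := by rw [e1]; group
    _ = z * (u * s * u⁻¹) * (u * w₁) := by rw [← c]; group
    _ = z * z * s * (u * w₁) := by rw [h.usu]; group
    _ = s * (u * w₁) := by rw [h.zz, one_mul]

theorem sq2 : u * w₁ * (u * w₁) = z * (w₁ * w₁) := by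
  rw [← h.uu]
  calc u * w₁ * (u * w₁) = u * (w₁ * u) * w₁ := by group
    _ = u * u * (w₁ * w₁) := by rw [← (h.cu w₁ h1).eq]; group

/-- the centraliser of `s` -/
theorem cenR {r : G} (hr : r ∈ R) (c : Commute r s) :
    ∃ k, (k = 1 ∨ k = z ∨ k = s ∨ k = z * s) ∧ (r = k ∨ r = u * w₁ * k) := by
  obtain ⟨i, j, l, hi, hj, hl, w, hw, rfl⟩ := h.dec r hr
  have c0 : Commute (u ^ i * m ^ j * w) s := by
    have := c.mul_left ((Commute.refl s).pow_left l).inv_left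
    rwa [mul_inv_cancel_right] at this
  have key : (u ^ i * m ^ j * w = 1 ∨ u ^ i * m ^ j * w = z) ∨
      u ^ i * m ^ j * w = u * w₁ ∨ u ^ i * m ^ j * w = u * w₁ * z := by
    have t := h.cmT hw
    interval_cases j <;> interval_cases i <;>
      simp only [pow_zero, pow_one, one_mul, mul_one] at c0 ⊢
    · exact Or.inl (h.cen w hw c0)
    · refine Or.inr ((h.same h1 e1 hw ?_).imp (fun e => by rw [e]) fun e => by rw [e, mul_assoc])
      have e2 : u⁻¹ * s * u = z * s := by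
        rw [mul_assoc, h.su', ← mul_assoc, ← mul_inv_rev, h.uu, h.zi]
      rw [← e2]
      calc w * s * w⁻¹ = u⁻¹ * (u * w * s) * w⁻¹ := by group
        _ = u⁻¹ * s * u := by rw [c0.eq]; group
    · refine (h.uT ?_).elim
      have e2 : u = m * (w * s * w⁻¹ * s⁻¹) * m⁻¹ := by
        calc u = u * m * s * w * w⁻¹ * s⁻¹ * m⁻¹ := by group
          _ = s * (m * w) * w⁻¹ * s⁻¹ * m⁻¹ := by rw [← h.sm']; group
          _ = _ := by rw [← c0.eq]; group
      rw [e2, (h.cm _ t).eq, mul_inv_cancel_right]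
      exact t
    · refine (h.uT (inv_mem_iff.1 ?_)).elim
      have e2 : u⁻¹ = m * (w * s * w⁻¹ * s⁻¹) * m⁻¹ := by
        calc u⁻¹ = u⁻¹ * u⁻¹ * (u * m * s) * w * w⁻¹ * s⁻¹ * m⁻¹ := by group
          _ = u⁻¹ * (u⁻¹ * s) * m * w * w⁻¹ * s⁻¹ * m⁻¹ := by rw [← h.sm']; group
          _ = u⁻¹ * (s * (u * m * w)) * w⁻¹ * s⁻¹ * m⁻¹ := by rw [← h.su']; group
          _ = _ := by rw [← c0.eq]; group
      rw [e2, (h.cm _ t).eq, mul_inv_cancel_right]
      exact t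
  interval_cases l
  · rcases key with (e | e) | e | e <;> rw [e, pow_zero, mul_one]
    · exact ⟨1, by simp, Or.inl rfl⟩
    · exact ⟨z, by simp, Or.inl rfl⟩
    · exact ⟨1, by simp, Or.inr (mul_one _).symm⟩
    · exact ⟨z, by simp, Or.inr rfl⟩
  · rcases key with (e | e) | e | e <;> rw [e, pow_one]
    · exact ⟨s, by simp, Or.inl (one_mul _)⟩
    · exact ⟨z * s, by simp, Or.inl rfl⟩
    · exact ⟨s, by simp, Or.inr rfl⟩
    · exact ⟨z * s, by simp, Or.inr (mul_assoc _ _ _)⟩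

theorem sqk {k : G} (hk : k = 1 ∨ k = z ∨ k = s ∨ k = z * s) :
    k * k = 1 ∧ u * w₁ * k * (u * w₁ * k) = z * (w₁ * w₁) := by
  have c1 := (h.cz _ (mul_mem h.uR (h.TR h1))).symm
  have c2 := h.cs h1 e1
  have kk : k * k = 1 ∧ Commute (u * w₁) k := by
    rcases hk with rfl | rfl | rfl | rfl
    · exact ⟨mul_one _, Commute.one_right _⟩
    · exact ⟨h.zz, c1⟩
    · exact ⟨h.ss, c2⟩
    · exact ⟨by rw [(h.cz s h.sR).symm.mul_mul_mul_comm z s, h.zz, h.ss, mul_one],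
        c1.mul_right c2⟩
  exact ⟨kk.1, by rw [kk.2.symm.mul_mul_mul_comm, kk.1, mul_one, h.sq2 h1 e1]⟩

theorem cj2 : IsConj (u * w₁ * s) (u * w₁ * (z * s)) :=
  isConj_iff.2 ⟨u, by
    rw [← h.usu]
    calc u * (u * w₁ * s) * u⁻¹ = u * (u * w₁) * s * u⁻¹ := by group
      _ = u * (w₁ * u) * s * u⁻¹ := by rw [(h.cu w₁ h1).eq]
      _ = _ := by group⟩

theorem ex2 (sq : w₁ * w₁ = z) {w w' : G} (hw : w ∈ T) (hw' : w' ∈ T) (n1 : w ∉ zpowers z)
    (n2 : w' ∉ zpowers z) (n3 : w * w' ∉ zpowers z) : IsConj s (u * w₁ * s) := by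
  have q4 : w₁ * w₁ * (w₁ * w₁) = 1 := by rw [sq, h.zz]
  have cz := (h.cz w₁ (h.TR h1)).eq
  have e2 : s * w₁ * s⁻¹ = w₁⁻¹ := by
    calc s * w₁ * s⁻¹ = z⁻¹ * (z * s) * w₁ * s⁻¹ := by group
      _ = z⁻¹ * w₁ := by rw [← e1]; group
      _ = w₁⁻¹ := by rw [← sq]; group
  obtain ⟨v, hv, n, q⟩ := h.grow (zpowers_le.2 h1) (fun w hw => by
      obtain ⟨k, rfl⟩ := mem_zpowers_iff.1 hw
      rw [← conj_zpow, e2]
      exact zpow_mem (inv_mem (mem_zpowers _)) k)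
    fun q => by
      have z1 : z ∈ zpowers z := mem_zpowers z
      have a : ∀ {w}, w ∈ T → w ∉ zpowers z → w = w₁ ∨ w = w₁ * z := fun hw n => by
        rcases zp4 q4 (q hw) with e | e | e | e
        · exact (n (e ▸ one_mem _)).elim
        · exact (n (e ▸ sq ▸ z1)).elim
        · exact Or.inl e
        · exact Or.inr (sq ▸ e)
      refine n3 ?_
      rcases a hw n1 with rfl | rfl <;> rcases a hw' n2 with e | e <;> rw [e]
      · exact sq ▸ z1
      · rw [← mul_assoc, sq]; exact mul_mem z1 z1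
      · rw [mul_assoc, cz, ← mul_assoc, sq]; exact mul_mem z1 z1
      · rw [mul_assoc, ← mul_assoc z, cz, ← mul_assoc, ← mul_assoc, sq]
        exact mul_mem (mul_mem z1 z1) z1
  have zw : z ∈ zpowers w₁ := sq ▸ mul_mem (mem_zpowers _) (mem_zpowers _)
  have ui : u⁻¹ = u * z := by
    rw [← h.uu, inv_eq_iff_mul_eq_one, ← mul_assoc, h.uu, h.zz]
  have key : ∀ t ∈ T, v * s * v⁻¹ * s⁻¹ = t → (m * v) * s * (m * v)⁻¹ = u * t * (z * s) := fun t ht e => by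
    calc (m * v) * s * (m * v)⁻¹ = m * (v * s * v⁻¹ * s⁻¹) * s * m⁻¹ := by group
      _ = t * (m * s * m⁻¹) := by rw [e, (h.cm t ht).eq]; group
      _ = u * t * (z * s) := by rw [h.msm, ui, (h.cu t ht).eq]; group
  rcases zp4 q4 q with e | e | e | e
  · rw [mul_inv_eq_one, mul_inv_eq_iff_eq_mul] at e
    rcases h.cen v hv e with rfl | rfl
    · exact (n (one_mem _)).elim
    · exact (n zw).elim
  · rcases h.same h1 e1 hv (by rw [← sq, ← e]; group) with rfl | rfl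
    · exact (n (mem_zpowers _)).elim
    · exact (n (mul_mem (mem_zpowers _) zw)).elim
  · exact (isConj_iff.2 ⟨_, key _ h1 e⟩).trans (h.cj2 h1 e1).symm
  · refine isConj_iff.2 ⟨_, (key _ (mul_mem h1 (mul_mem h1 h1)) e).trans ?_⟩
    rw [sq]
    calc u * (w₁ * z) * (z * s) = u * w₁ * (z * z) * s := by group
      _ = _ := by rw [h.zz, mul_one]

omit h1 e1

theorem u4 : u ^ (4 : ℤ) = 1 := by rw [← h.zz, ← h.uu, zpow_ofNat]; simp [pow_succ, mul_assoc]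

theorem odd_ne (k : ℤ) : u ^ (2 * k + 1) ≠ 1 := fun e => h.z1 (by
  have e1 := h.u4
  have e2 : u ^ (4 * k + 2) = 1 := by rw [show 4 * k + 2 = (2 * k + 1) * 2 by ring, zpow_mul, e, one_zpow]
  rw [zpow_add, zpow_mul, e1, one_zpow, one_mul, zpow_two, h.uu] at e2
  exact e2)

theorem mz (i : ℤ) : m * u ^ i = u ^ (-i) * m := by
  rw [zpow_neg, ← inv_zpow, ← h.mu, conj_zpow]; group
theorem sz (i : ℤ) : s * u ^ i = u ^ (-i) * s := by
  rw [zpow_neg, ← inv_zpow, ← h.su, conj_zpow]; group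
theorem m2 : m * m = u ^ (2 : ℤ) := by rw [h.mm, zpow_two, h.uu]

theorem nf {r : G} (hr : r ∈ closure {u, m, s}) :
    ∃ i : ℤ, r = u ^ i ∨ r = u ^ i * m ∨ r = u ^ i * s ∨ r = u ^ i * (m * s) := by
  let P : G → Prop := fun r => ∃ i : ℤ, r = u ^ i ∨ r = u ^ i * m ∨ r = u ^ i * s ∨ r = u ^ i * (m * s)
  have a : ∀ (k : ℤ) y, P y → P (u ^ k * y) := by
    rintro k y ⟨i, e⟩
    refine ⟨k + i, ?_⟩
    rcases e with rfl | rfl | rfl | rfl <;> simp [zpow_add, mul_assoc]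
  have b : ∀ y, P y → P (m * y) := by
    rintro y ⟨i, rfl | rfl | rfl | rfl⟩
    · exact ⟨-i, Or.inr (Or.inl (h.mz i))⟩
    · exact ⟨-i + 2, Or.inl (by rw [← mul_assoc, h.mz, mul_assoc, h.m2, zpow_add])⟩
    · exact ⟨-i, Or.inr (Or.inr (Or.inr (by rw [← mul_assoc, h.mz, mul_assoc])))⟩
    · exact ⟨-i + 2, Or.inr (Or.inr (Or.inl (by
        rw [← mul_assoc, h.mz, mul_assoc, ← mul_assoc m, h.m2, zpow_add, mul_assoc])))⟩
  have c : ∀ y, P y → P (s * y) := by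
    rintro y ⟨i, rfl | rfl | rfl | rfl⟩
    · exact ⟨-i, Or.inr (Or.inr (Or.inl (h.sz i)))⟩
    · exact ⟨-i + 1, Or.inr (Or.inr (Or.inr (by rw [← mul_assoc, h.sz, mul_assoc, h.sm']; group)))⟩
    · exact ⟨-i, Or.inl (by rw [← mul_assoc, h.sz, mul_assoc, h.ss, mul_one])⟩
    · exact ⟨-i + 1, Or.inr (Or.inl (by
        rw [← mul_assoc, h.sz, mul_assoc, ← mul_assoc s, h.sm', mul_assoc _ s, h.ss]; group))⟩
  show P r
  induction hr using closure_induction_left with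
  | one => exact ⟨0, Or.inl (zpow_zero u).symm⟩
  | mul_left x hx y _ q =>
    rcases hx with rfl | rfl | rfl
    · simpa using a 1 y q
    · exact b y q
    · exact c y q
  | inv_mul_cancel x hx y _ q =>
    rcases hx with rfl | rfl | rfl
    · simpa using a (-1) y q
    · have e : x⁻¹ = u ^ (2 : ℤ) * x := by
        rw [← h.m2, inv_eq_iff_mul_eq_one, ← mul_assoc, ← mul_assoc, mul_assoc (x * x), h.mm, h.zz]
      rw [e, mul_assoc]
      exact a 2 _ (b y q)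
    · rw [h.si]
      exact c y q

/-- the case `|T| = 4` -/
theorem small {w₀ : G} (h0 : w₀ ∈ T) (sq : w₀ * w₀ = z)
    (sm : ∀ w ∈ T, ∀ w' ∈ T, w ∈ zpowers z ∨ w' ∈ zpowers z ∨ w * w' ∈ zpowers z) :
    ∃ Q : Subgroup G, Q ≤ R ∧ Q.relIndex R = 2 ∧ u * w₀ ∉ Q ∧
      ∀ r ∈ Q, r * r = 1 → r = 1 ∨ r = z ∨ IsConj s r := by
  have uQ : u ∈ closure {u, m, s} := subset_closure (by simp)
  have mQ : m ∈ closure {u, m, s} := subset_closure (by simp)
  have sQ : s ∈ closure {u, m, s} := subset_closure (by simp)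
  have zQ : zpowers z ≤ closure {u, m, s} := zpowers_le.2 (h.uu ▸ mul_mem uQ uQ)
  have inv : ∀ (i : ℤ) (x : G), x * u = u⁻¹ * x → w₀ ≠ u ^ i * x := fun i x e q => h.z1 (by
    have c := (h.cu w₀ h0).eq
    rw [q, mul_assoc, e, ← mul_assoc, ← mul_assoc, mul_left_inj, ← ((Commute.refl u).zpow_left i).eq,
      mul_right_inj, eq_inv_iff_mul_eq_one] at c
    rw [← h.uu, c])
  have nQ : w₀ ∉ closure {u, m, s} := fun q => by
    have c := (h.cm w₀ h0).eq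
    obtain ⟨i, e | e | e | e⟩ := h.nf q
    · rw [e, h.mz, mul_left_inj] at c
      refine h.z1 ?_
      rw [← sq, e]
      nth_rewrite 1 [← c]
      group
    · exact inv i m h.mu' e
    · exact inv i s h.su' e
    · refine h.odd_ne (i - 1) ?_
      rw [e, ← mul_assoc, h.mz, mul_assoc, ← mul_assoc m, h.m2, mul_assoc, mul_assoc, h.sm',
        ← mul_assoc m, ← mul_assoc m, h.mu', mul_assoc u⁻¹, h.m2, ← mul_assoc, ← mul_assoc,
        mul_left_inj] at c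
      calc u ^ (2 * (i - 1) + 1) = (u ^ (-i) * u ^ (2 : ℤ))⁻¹ * (u ^ i * (u⁻¹ * u ^ (2 : ℤ))) := by group
        _ = 1 := by rw [c, inv_mul_cancel]
  refine ⟨closure {u, m, s}, (closure_le _).2 ?_, relIndex_eq_two_iff_exists_notMem_and'.2
    ⟨w₀, h.TR h0, nQ, fun b hb => ?_⟩, fun q => nQ ((mul_mem_cancel_left uQ).1 q), fun r hr rr => ?_⟩
  · rintro _ (rfl | rfl | rfl)
    exacts [h.uR, h.mR, h.sR]
  · obtain ⟨i, j, l, -, -, -, w, hw, rfl⟩ := h.dec b hb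
    have k : ∀ t ∈ zpowers z, u ^ i * m ^ j * t * s ^ l ∈ closure {u, m, s} := fun t ht =>
      mul_mem (mul_mem (mul_mem (pow_mem uQ i) (pow_mem mQ j)) (zQ ht)) (pow_mem sQ l)
    rcases sm w₀ h0 w hw with q | q | q
    · exact (nQ (zQ q)).elim
    · exact Or.inr (k w q)
    · refine Or.inl ?_
      rw [← mul_assoc, ← mul_assoc,
        ← (((h.cu w₀ h0).pow_left i).mul_left ((h.cm w₀ h0).pow_left j)).eq, mul_assoc _ w₀]
      exact k _ q
  · obtain ⟨i, e | e | e | e⟩ := h.nf hr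
    · rcases Int.even_or_odd' i with ⟨k, rfl | rfl⟩
      · refine (zp2 h.zz (mem_zpowers_iff.2 ⟨k, ?_⟩)).imp_right Or.inl
        rw [e, zpow_mul, zpow_two, h.uu]
      · refine (h.z1 ?_).elim
        have e1 := h.u4
        rw [e, ← zpow_add, show 2 * k + 1 + (2 * k + 1) = 4 * k + 2 by ring, zpow_add, zpow_mul, e1,
          one_zpow, one_mul, zpow_two, h.uu] at rr
        exact rr
    · refine (h.z1 ?_).elim
      rw [e, mul_assoc, ← mul_assoc m, h.mz, mul_assoc, h.mm, ← mul_assoc, ← zpow_add,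
        add_neg_cancel, zpow_zero, one_mul] at rr
      exact rr
    · refine Or.inr (Or.inr ?_)
      have k2 : ∀ k j : ℤ, u ^ k * (u ^ j * s) * (u ^ k)⁻¹ = u ^ (2 * k + j) * s := fun k j => by
        rw [mul_assoc, mul_assoc, ← zpow_neg, h.sz]; group
      rcases Int.even_or_odd' i with ⟨k, rfl | rfl⟩
      · exact isConj_iff.2 ⟨u ^ k, by simpa [e] using k2 k 0⟩
      · refine (isConj_iff.2 ⟨m, h.msm⟩).trans (isConj_iff.2 ⟨u ^ (k + 1), ?_⟩)
        rw [← zpow_neg_one, k2, e]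
        congr 2
        ring
    · refine (h.odd_ne i ?_).elim
      rw [← rr, e]
      calc u ^ (2 * i + 1) = u ^ i * (u ^ (- -i) * (u⁻¹ * u ^ (2 : ℤ))) := by group
        _ = u ^ i * (u ^ (- -i) * (m * (u * m * s) * s)) := by
          rw [← h.m2, ← mul_assoc u⁻¹, ← h.mu', mul_assoc _ _ s, mul_assoc _ s, h.ss]; group
        _ = u ^ i * (m * (u ^ (-i) * s) * (m * s)) := by
          rw [← h.sm', ← mul_assoc m (u ^ (-i)), h.mz]; group
        _ = _ := by rw [← h.sz]; group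

end Loc

end CL.Cq
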