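/- S3235, disconnected case: basics and charts (collected). -/
import Mathlib
import Cfsg.Agent.CHEV.Cq.BasA
import Cfsg.Agent.CHEV.Cq.BasB
import Cfsg.Agent.CHEV.Cq.BasC
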