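/- S3235, disconnected case: a TI Sylow subgroup of order `n - 1` gives `End`. -/
import Mathlib
import Cfsg.Agent.CHEV.Cq.Defs

set_option autoImplicit false

namespace CL.Cq.IsoA

open Subgroup MulAction Pointwise

variable {G Ω : Type*} [Group G] [MulAction G Ω] [Finite G] [Finite Ω]

omit [Finite G] in
theorem mem_smul {r : ℕ} (R : Sylow r G) (g x : G) :
    x ∈ ((g • R : Sylow r G) : Subgroup G) ↔ g⁻¹ * x * g ∈ (R : Subgroup G) := by
  rw [Sylow.coe_subgroup_smul, mem_pointwise_smul_iff_inv_smul_mem, ← map_inv, MulAut.smul_def,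
    MulAut.conj_apply, inv_inv]

/-- a TI Sylow subgroup `R ≤ A` with `|A| ≤ |R|²` is normal in `A` -/
theorem norm {r : ℕ} [Fact r.Prime] (R : Sylow r G) {A : Subgroup G} (RA : (R : Subgroup G) ≤ A)
    (hA : Nat.card A ≤ Nat.card (R : Subgroup G) * Nat.card (R : Subgroup G))
    (ti : ∀ R' : Sylow r G, ∀ g ∈ (R : Subgroup G), g ∈ (R' : Subgroup G) → g ≠ 1 → R' = R)
    {g : G} (hg : g ∈ A) : g • R = R := by
  by_contra hn
  let f : ↥(R : Subgroup G) × ↥(R : Subgroup G) → A := fun x =>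
    ⟨(x.1 : G) * g * x.2, mul_mem (mul_mem (RA x.1.2) hg) (RA x.2.2)⟩
  have inj : Function.Injective f := by
    rintro ⟨x, y⟩ ⟨x', y'⟩ e
    have e1 : (x : G) * g * y = x' * g * y' := congrArg Subtype.val e
    have e2 : g⁻¹ * ((x' : G)⁻¹ * x) * g = y' * (y : G)⁻¹ := by
      rw [show g⁻¹ * ((x' : G)⁻¹ * x) * g = g⁻¹ * (x' : G)⁻¹ * (x * g * y) * (y : G)⁻¹ by group, e1]
      group
    have e3 : (x' : G)⁻¹ * x = 1 := by_contra fun h => hn (ti _ _ (mul_mem (inv_mem x'.2) x.2)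
      ((mem_smul R g _).2 (e2 ▸ mul_mem y'.2 (inv_mem y.2))) h)
    have e4 : (x' : G) = x := inv_mul_eq_one.1 e3
    rw [e4] at e1
    exact Prod.ext (Subtype.ext e4.symm) (Subtype.ext (mul_left_cancel e1))
  have sur : Function.Surjective f :=
    ((Nat.bijective_iff_injective_and_card f).2 ⟨inj, le_antisymm (Nat.card_le_card_of_injective f inj)
      (by rwa [Nat.card_prod])⟩).2
  obtain ⟨⟨x, y⟩, e⟩ := sur 1
  have e1 : (x : G) * g * y = 1 := congrArg Subtype.val e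
  have e2 : g = (x : G)⁻¹ * (y : G)⁻¹ := by
    rw [show g = (x : G)⁻¹ * (x * g * y) * (y : G)⁻¹ by group, e1]; group
  exact hn (Sylow.smul_eq_iff_mem_normalizer.2
    (le_normalizer (H := (R : Subgroup G)) (e2 ▸ mul_mem (inv_mem x.2) (inv_mem y.2))))

theorem end_of_TI (fa : ∀ g : G, (∀ c : Ω, g • c = c) → g = 1) (t2 : Tr2 G Ω) (h3 : 2 < Nat.card Ω) {r : ℕ} [Fact r.Prime] (R : Sylow r G)
    (hR : Nat.card (R : Subgroup G) + 1 = Nat.card Ω) (hG : Nat.card G ≤ Nat.card Ω * (Nat.card Ω - 1) * (Nat.card Ω - 1))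
    (ti : ∀ R' : Sylow r G, ∀ g ∈ (R : Subgroup G), g ∈ (R' : Subgroup G) → g ≠ 1 → R' = R) : End G Ω := by
  classical
  have hr : r.Prime := Fact.out
  obtain ⟨k, hk⟩ := R.2.exists_card_eq
  have hk' : Nat.card (R : Subgroup G) = r ^ k := hk
  have hd : r ∣ Nat.card (R : Subgroup G) := hk' ▸ dvd_pow_self r fun e => by
    rw [e, pow_zero] at hk'; omega
  obtain ⟨a, ha⟩ := R.2.nonempty_fixed_point_of_prime_not_dvd_card Ω fun h =>
    hr.one_lt.ne' (Nat.dvd_one.1 ((Nat.dvd_add_right hd).1 (hR ▸ h)))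
  have fx : ∀ u ∈ (R : Subgroup G), u • a = a := fun u hu => ha ⟨u, hu⟩
  have : Nontrivial Ω := Finite.one_lt_card_iff_nontrivial.1 (by omega)
  have tr : ∀ c : Ω, ∃ g : G, g • a = c := fun c => by
    obtain ⟨b, hb⟩ := exists_ne a
    obtain ⟨d, hd⟩ := exists_ne c
    obtain ⟨g, h, -⟩ := t2 hb.symm hd.symm
    exact ⟨g, h⟩
  have : IsPretransitive G Ω := ⟨fun x y => by
    obtain ⟨g, rfl⟩ := tr x
    obtain ⟨h, rfl⟩ := tr y
    exact ⟨h * g⁻¹, by rw [mul_smul, inv_smul_smul]⟩⟩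
  have hA : Nat.card (stabilizer G a) ≤ Nat.card (R : Subgroup G) * Nat.card (R : Subgroup G) := by
    have h1 := (stabilizer G a).index_mul_card
    rw [index_stabilizer_of_transitive] at h1
    rw [← h1, mul_assoc, show Nat.card Ω - 1 = Nat.card (R : Subgroup G) by omega] at hG
    exact Nat.le_of_mul_le_mul_left hG (by omega)
  have nm : ∀ g : G, g • a = a → g • R = R := fun g hg => norm R fx hA ti hg
  have cj : ∀ g : G, g • a = a → ∀ u ∈ (R : Subgroup G), g * u * g⁻¹ ∈ (R : Subgroup G) :=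
    fun g hg u hu => by
      rw [← nm g hg, mem_smul]
      simpa [mul_assoc] using hu
  have sr : ∀ x ∈ (R : Subgroup G), ∀ c, c ≠ a → x • c = c → x = 1 := by
    intro x hx c hc e
    by_contra x1
    obtain ⟨g, rfl⟩ := tr c
    have h1 : (g⁻¹ * x * g) • a = a := by rw [mul_smul, mul_smul, e, inv_smul_smul]
    have h2 : g⁻¹ * x * g ∈ ((g⁻¹ • R : Sylow r G) : Subgroup G) := by
      rw [mem_smul]; simpa [mul_assoc] using hx
    have h3 : g⁻¹ * x * g ∈ (R : Subgroup G) :=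
      (((g⁻¹ • R : Sylow r G).2.inf_normalizer_sylow R).le
        ⟨h2, Sylow.smul_eq_iff_mem_normalizer.1 (nm _ h1)⟩).2
    have h4 := ti _ x hx ((mem_smul R g x).2 h3) x1
    refine x1 (fa x fun d => ?_)
    by_cases hd : d = a
    · exact hd ▸ fx x hx
    obtain ⟨h, h5, rfl⟩ := t2 hc.symm (Ne.symm hd)
    have h6 : h⁻¹ * x * h ∈ (R : Subgroup G) := by
      simpa using cj h⁻¹ (inv_smul_eq_iff.2 h5.symm) x hx
    rw [← h4, mem_smul] at h6
    have h7 := fx _ h6
    simp only [mul_smul, inv_smul_eq_iff] at h7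
    exact h7
  refine ⟨a, R, fx, cj, R.2.isNilpotent, fun {x y} hx hy => ?_⟩
  let f : ↥(R : Subgroup G) → {y : Ω // y ≠ a} := fun u => ⟨(u : G) • x, fun e => hx (by
    rw [← inv_smul_smul (u : G) x, e, fx _ (inv_mem u.2)])⟩
  have inj : Function.Injective f := fun u v e => by
    have e1 : (u : G) • x = (v : G) • x := congrArg Subtype.val e
    have := sr _ (mul_mem (inv_mem v.2) u.2) x hx (by rw [mul_smul, e1, inv_smul_smul])
    exact Subtype.ext (inv_mul_eq_one.1 this).symm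
  have hc : Nat.card {y : Ω // y ≠ a} + 1 = Nat.card Ω := by
    have := Fintype.ofFinite Ω
    rw [Nat.card_eq_fintype_card, Nat.card_eq_fintype_card, Fintype.card_subtype_compl,
      Fintype.card_subtype_eq]
    have := Fintype.card_pos_iff.2 ⟨a⟩
    omega
  obtain ⟨u, hu⟩ := ((Nat.bijective_iff_injective_and_card f).2 ⟨inj, by omega⟩).2 ⟨y, hy⟩
  exact ⟨u, u.2, congrArg Subtype.val hu⟩

end CL.Cq.IsoA
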