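/- S3235, disconnected case: `-1 ∈ ⟨u(s), l(t)⟩` by Dickson's lemma. -/
import Mathlib
import Cfsg.Agent.CHEV.PT.L2
import Cfsg.Agent.PLOC.Dickson

set_option autoImplicit false

namespace CL.Cq.JacB

open Subgroup CL.PT CL.PT.L2x

theorem sq_one {K : Type} [Field K] (h2 : (2 : K) ≠ 0) {A : Matrix.SpecialLinearGroup (Fin 2) K} (h : A * A = 1) :
    A = 1 ∨ A = -1 := by
  have h00 := congrArg (fun B : Matrix.SpecialLinearGroup (Fin 2) K => B.1 0 0) h
  have h01 := congrArg (fun B : Matrix.SpecialLinearGroup (Fin 2) K => B.1 0 1) h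
  have h10 := congrArg (fun B : Matrix.SpecialLinearGroup (Fin 2) K => B.1 1 0) h
  have h11 := congrArg (fun B : Matrix.SpecialLinearGroup (Fin 2) K => B.1 1 1) h
  simp only [mul_ap] at h00 h01 h10 h11
  have e00 : (1 : Matrix.SpecialLinearGroup (Fin 2) K).1 0 0 = 1 := rfl
  have e01 : (1 : Matrix.SpecialLinearGroup (Fin 2) K).1 0 1 = 0 := rfl
  have e10 : (1 : Matrix.SpecialLinearGroup (Fin 2) K).1 1 0 = 0 := rfl
  have e11 : (1 : Matrix.SpecialLinearGroup (Fin 2) K).1 1 1 = 1 := rfl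
  rw [e00] at h00
  rw [e01] at h01
  rw [e10] at h10
  rw [e11] at h11
  have d := det2 A
  have tr : A.1 0 0 + A.1 1 1 ≠ 0 := by
    intro t
    apply h2
    have : A.1 1 1 = - A.1 0 0 := by linear_combination t
    rw [this] at d
    linear_combination -d - h00
  have b0 : A.1 0 1 = 0 := by
    have : A.1 0 1 * (A.1 0 0 + A.1 1 1) = 0 := by linear_combination h01
    exact (mul_eq_zero.1 this).resolve_right tr
  have c0 : A.1 1 0 = 0 := by
    have : A.1 1 0 * (A.1 0 0 + A.1 1 1) = 0 := by linear_combination h10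
    exact (mul_eq_zero.1 this).resolve_right tr
  rw [b0] at h00 d
  have a2 : (A.1 0 0 - 1) * (A.1 0 0 + 1) = 0 := by linear_combination h00
  rcases mul_eq_zero.1 a2 with a | a
  · left
    have a' : A.1 0 0 = 1 := by linear_combination a
    rw [a'] at d
    exact ext2 a' b0 c0 (by rw [e11]; linear_combination d)
  · right
    have a' : A.1 0 0 = -1 := by linear_combination a
    rw [a'] at d
    refine ext2 ?_ ?_ ?_ ?_
    · simp [a']
    · simp [b0]
    · simp [c0]
    · have : A.1 1 1 = -1 := by linear_combination -d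
      simp [this]

variable {p : ℕ} {F : Type} [Field F] [Fintype F] [CharP F p]

theorem neg_mem (hp : p.Prime) (p5 : 5 ≤ p) {s t : F} (hs : s ≠ 0) (ht : t ≠ 0) :
    (-1 : Matrix.SpecialLinearGroup (Fin 2) F) ∈ zpowers (uu s) ⊔ zpowers (ll t) := by
  have : Fact p.Prime := ⟨hp⟩
  have hx : uu s ∈ zpowers (uu s) ⊔ zpowers (ll t) := mem_sup_left (mem_zpowers _)
  have hy : ll t ∈ zpowers (uu s) ⊔ zpowers (ll t) := mem_sup_right (mem_zpowers _)
  have xa : uu s ^ p ^ 1 = 1 := by rw [pow_one, uu_pow, CharP.cast_eq_zero, zero_mul, uu_zero]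
  have yb : ll t ^ p ^ 1 = 1 := by rw [pow_one, ll_pow, CharP.cast_eq_zero, zero_mul, ll_zero]
  have nc : uu s * ll t ≠ ll t * uu s := fun c => ht (low_zero hs (C := ll t) c)
  obtain ⟨ψ, hψ⟩ := CL.Dickson.exists_embedding (p := p) (by omega) (zpowers (uu s) ⊔ zpowers (ll t)) hx hy xa yb nc
  have n1 : (-1 : Matrix.SpecialLinearGroup (Fin 2) (ZMod p)) ≠ 1 := neg_one_ne (cast_ne hp p5).1
  have sq : ((ψ (-1) : _) : Matrix.SpecialLinearGroup (Fin 2) F) * ψ (-1) = 1 := by
    rw [← Subgroup.coe_mul, ← map_mul, neg_mul_neg, one_mul, map_one, Subgroup.coe_one]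
  rcases sq_one (cast_ne hp p5).1 sq with e | e
  · exact absurd (hψ ((Subtype.ext e : ψ (-1) = 1).trans (map_one ψ).symm)) n1
  · exact e ▸ (ψ (-1)).2

end CL.Cq.JacB
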