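/- S3235, disconnected case: the tail of `Cq/Tor` (lines, full charts). -/
import Mathlib
import Cfsg.Agent.CHEV.Cq.Bas

set_option autoImplicit false
set_option linter.unusedSectionVars false
set_option linter.unusedVariables false

namespace CL.Cq.TorB

open Subgroup CL.PT CL.PT.L2x

variable {p : ℕ} {G Ω : Type*} [Group G] [MulAction G Ω] [Finite G] [Finite Ω] {S : Ω → Set G} {D : Ω → Ω → ℤ → G}
  {a b c : Ω} {x y : G}

theorem b_mem (S : Ω → Set G) (a b : Ω) : b ∈ Ln S a b := Or.inr ⟨1, one_mem _, one_smul _ _⟩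

theorem a_mem (S : Ω → Set G) (a b : Ω) : a ∈ Ln S a b := Or.inl rfl

variable (h : Hz p S D)
include h

theorem sy : Sys p S := h.toHy.toSys

theorem sr2 (n : a ≠ b) {e f : G} (he : e ∈ E S a) (hf : f ∈ E S a) (q : e • b = f • b) : e = f := by
  have : f⁻¹ * e = 1 := h.sr n _ (mul_mem (inv_mem hf) he) (by rw [mul_smul, q, inv_smul_smul])
  exact (inv_mul_eq_one.1 this).symm

theorem cfix {g : G} (hx : x ∈ S a) (cm : Commute g x) : g • a = a := by
  have := (sy h).conj g hx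
  rw [cm.eq, mul_inv_cancel_right] at this
  exact (sy h).pt_eq this hx

theorem C_fix {g : G} (hg : g ∈ C S a) : g • a = a := by
  obtain ⟨x, hx⟩ := (sy h).ex a
  exact cfix h hx (Eq.symm (mem_C.1 hg x (subset_closure hx)))

theorem E_le_C (a : Ω) : E S a ≤ C S a := fun e he => mem_C.2 fun f hf => ((sy h).E_comm hf he).eq

theorem uniq (n : a ≠ b) (hx : x ∈ S a) {y' : G} (hy : y ∈ S b) (hy' : y' ∈ S b)
    (d : Bd x y) (d' : Bd x y') : y = y' :=
  sr2 h n.symm (subset_closure hy) (subset_closure hy')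
    (by rw [((sy h).bd hx hy d).2.2, ((sy h).bd hx hy' d').2.2])

theorem nd1 : ¬ (p : ℤ) ∣ -1 := by
  have := (sy h).p5
  intro q
  have := Int.le_of_dvd (by norm_num) (dvd_neg.1 q)
  omega

/-- semiregularity -/
theorem Ln_card (n : a ≠ b) : (Ln S a b).ncard = Nat.card (E S a) + 1 := by
  have e : orb (E S a) b = Set.range fun e : E S a => (e : G) • b := by
    ext c
    constructor
    · rintro ⟨u, hu, rfl⟩
      exact ⟨⟨u, hu⟩, rfl⟩
    · rintro ⟨u, rfl⟩
      exact ⟨u, u.2, rfl⟩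
  have na : a ∉ orb (E S a) b := by
    rintro ⟨u, hu, q⟩
    apply n
    have := (sy h).E_fix (inv_mem hu)
    rw [← this]
    conv_lhs => rw [← q]
    rw [inv_smul_smul]
  have inj : Function.Injective fun e : E S a => (e : G) • b := fun e f q =>
    Subtype.ext (sr2 h n e.2 f.2 q)
  unfold Ln
  rw [Set.ncard_insert_of_notMem na (Set.toFinite _), e, ← Nat.card_coe_set_eq, Nat.card_range_of_injective inj]

theorem E_le_card (a b : Ω) : Nat.card (E S a) ≤ Nat.card (E S b) := by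
  obtain ⟨g, rfl⟩ := h.toHy.trans a b
  refine Nat.card_le_card_of_injective (fun e : E S a => (⟨g * e * g⁻¹, (sy h).E_conj g e.2⟩ : E S (g • a))) ?_
  intro e f q
  have := congrArg Subtype.val q
  simp only [mul_left_inj, mul_right_inj] at this
  exact Subtype.ext this

theorem E_card (a b : Ω) : Nat.card (E S a) = Nat.card (E S b) ∧ Odd (Nat.card (E S a)) ∧ ∃ k, 1 ≤ k ∧ Nat.card (E S a) = p ^ k := by
  have : Fact p.Prime := ⟨(sy h).pr⟩
  obtain ⟨k, hk⟩ := IsPGroup.iff_card.1 ((sy h).E_pg a)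
  have p5 := (sy h).p5
  refine ⟨le_antisymm (E_le_card h a b) (E_le_card h b a), ?_, k, ?_, hk⟩
  · rw [hk]
    exact ((sy h).pr.odd_of_ne_two (by omega)).pow
  · rcases Nat.eq_zero_or_pos k with rfl | q
    · obtain ⟨x, hx⟩ := (sy h).ex a
      rw [pow_zero, Subgroup.card_eq_one] at hk
      have : x ∈ E S a := subset_closure hx
      rw [hk, mem_bot] at this
      exact absurd this ((sy h).ne hx)
    · exact q

theorem Ln_smul (g : G) (a b : Ω) {c : Ω} (hc : c ∈ Ln S a b) : g • c ∈ Ln S (g • a) (g • b) := by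
  rcases hc with rfl | ⟨u, hu, rfl⟩
  · exact Or.inl rfl
  · exact Or.inr ⟨g * u * g⁻¹, (sy h).E_conj g hu, by simp [mul_smul]⟩

section full

variable {F : Type} [Field F] [Fintype F] [CharP F p] {φ : Matrix.SpecialLinearGroup (Fin 2) F →* G}

theorem full_conj (f : Full S a b φ) (g : G) : Full S (g • a) (g • b) ((MulAut.conj g).toMonoidHom.comp φ) := by
  have k : ∀ {a : Ω} {e : G}, e ∈ E S (g • a) → g⁻¹ * e * g ∈ E S a := by
    intro a e he
    simpa using (sy h).E_conj g⁻¹ he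
  refine ⟨⟨fun A q => f.ker A ?_, (sy h).conj g f.u1, (sy h).conj g f.l1, fun t => (sy h).E_conj g (f.uE t),
    fun t => (sy h).E_conj g (f.lE t)⟩, fun e he => ?_, fun e he => ?_⟩
  · have : g * φ A * g⁻¹ = 1 := q
    simpa [mul_inv_eq_one] using this
  · obtain ⟨t, ht⟩ := f.uS _ (k he)
    refine ⟨t, ?_⟩
    show g * φ (uu t) * g⁻¹ = e
    rw [ht]; group
  · obtain ⟨t, ht⟩ := f.lS _ (k he)
    refine ⟨t, ?_⟩
    show g * φ (ll t) * g⁻¹ = e
    rw [ht]; group

theorem full_card (n : a ≠ b) (f : Full S a b φ) : Fintype.card F = Nat.card (E S a) := by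
  rw [← Nat.card_eq_fintype_card]
  refine Nat.card_eq_of_bijective (fun t : F => (⟨φ (uu t), f.uE t⟩ : E S a)) ⟨fun s t q => ?_, fun e => ?_⟩
  · exact Chart.u_inj (sy h) n f.toChart (congrArg Subtype.val q)
  · obtain ⟨t, ht⟩ := f.uS e e.2
    exact ⟨t, Subtype.ext ht⟩

theorem full_Ln (n : a ≠ b) (f : Full S a b φ) : Ln S a b = insert a (Set.range fun t => φ (uu t) • b) := by
  unfold Ln
  congr 1
  ext c
  constructor
  · rintro ⟨u, hu, rfl⟩
    obtain ⟨t, rfl⟩ := f.uS u hu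
    exact ⟨t, rfl⟩
  · rintro ⟨t, rfl⟩
    exact ⟨_, f.uE t, rfl⟩

theorem full_range (n : a ≠ b) (f : Full S a b φ) : φ.range = E S a ⊔ E S b := by
  apply le_antisymm
  · have := gen_top ((E S a ⊔ E S b).comap φ) (fun t => mem_comap.2 (mem_sup_left (f.uE t)))
      (fun t => mem_comap.2 (mem_sup_right (f.lE t)))
    rintro _ ⟨A, rfl⟩
    exact mem_comap.1 (this ▸ mem_top A)
  · exact sup_le (fun e he => let ⟨t, ht⟩ := f.uS e he; ⟨_, ht⟩) (fun e he => let ⟨t, ht⟩ := f.lS e he; ⟨_, ht⟩)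

theorem full_W (n : a ≠ b) (f : Full S a b φ) {w : G} : w ∈ W S a b ↔ ∀ A, Commute w (φ A) := by
  constructor
  · rintro ⟨hw, wb⟩
    have wb : w • b = b := wb
    have cu : ∀ t, Commute w (φ (uu t)) := fun t => Eq.symm (mem_C.1 hw _ (f.uE t))
    have d : Bd (φ (uu (1 : F))) (φ (ll (-1))) := by simpa using bd_uu φ (t := 1) one_ne_zero
    have cl : Commute w (φ (ll (-1))) := by
      have m := (sy h).conj w f.l1
      rw [wb] at m
      have d' : Bd (φ (uu (1 : F))) (w * φ (ll (-1)) * w⁻¹) := by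
        have e1 : φ (uu (1 : F)) = w * φ (uu (1 : F)) * w⁻¹ := by rw [(cu 1).eq, mul_inv_cancel_right]
        unfold Bd at d ⊢
        rw [e1]
        calc _ = w * (φ (uu (1 : F)) * φ (ll (-1)) * φ (uu (1 : F))) * w⁻¹ := by group
          _ = _ := by rw [d]; group
      have := uniq h n f.u1 f.l1 m d d'
      exact (eq_mul_inv_iff_mul_eq.1 this).symm
    have ew : (ww : Matrix.SpecialLinearGroup (Fin 2) F)⁻¹ = uu 1 * ll (-1) * uu 1 := by
      rw [inv_eq_iff_mul_eq_one]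
      apply ext2 <;> simp [mul_ap, ww_val, uu_val, ll_val]
    have cw' : Commute w (φ ww⁻¹) := by
      rw [ew, map_mul, map_mul]
      exact ((cu 1).mul_right cl).mul_right (cu 1)
    have cw : Commute w (φ ww) := by
      rw [map_inv] at cw'
      simpa using cw'.inv_right
    have := gen_top ((centralizer {w}).comap φ)
      (fun t => mem_comap.2 (mem_centralizer_singleton_iff.2 (cu t).symm.eq))
      (fun t => mem_comap.2 (mem_centralizer_singleton_iff.2 (by
        have : Commute w (φ (ll t)) := by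
          rw [ww_uu, map_mul, map_mul]
          exact (cw.mul_right (cu _)).mul_right cw'
        exact this.symm.eq)))
    intro A
    have hA : A ∈ (centralizer {w}).comap φ := this ▸ mem_top A
    exact Eq.symm (mem_centralizer_singleton_iff.1 (mem_comap.1 hA))
  · intro cm
    refine ⟨mem_C.2 fun e he => ?_, cfix h f.l1 (cm _)⟩
    obtain ⟨t, rfl⟩ := f.uS e he
    exact (cm _).symm.eq

theorem full_inv (n : a ≠ b) (f : Full S a b φ) (A : Matrix.SpecialLinearGroup (Fin 2) F) (hc : c ∈ Ln S a b) :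
    φ A • c ∈ Ln S a b := by
  rw [full_Ln h n f] at hc ⊢
  exact Chart.inv_pt (sy h) n f.toChart A hc

/-- `φ (SL₂ F)` is doubly transitive on the line -/
theorem full_tr (n : a ≠ b) (f : Full S a b φ) {c d : Ω} (hc : c ∈ Ln S a b) (hd : d ∈ Ln S a b) (cd : c ≠ d) :
    ∃ A, φ A • a = c ∧ φ A • b = d := by
  obtain ⟨A, hA⟩ : ∃ A, φ A • a = c := by
    rw [full_Ln h n f] at hc
    rcases hc with rfl | ⟨t, rfl⟩
    · exact ⟨1, by simp⟩
    · exact ⟨uu t * ww, by rw [map_mul, mul_smul, (Chart.w_smul (sy h) n f.toChart).1]⟩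
  have m := full_inv h n f A⁻¹ hd
  rw [full_Ln h n f] at m
  rcases m with q | ⟨s, q⟩
  · exfalso
    apply cd
    rw [← hA, ← q, map_inv, smul_inv_smul]
  · refine ⟨A * uu s, ?_, ?_⟩
    · rw [map_mul, mul_smul, (sy h).E_fix (f.uE s), hA]
    · have q : φ (uu s) • b = φ A⁻¹ • d := q
      rw [map_mul, mul_smul, q, map_inv, smul_inv_smul]

theorem D_neg (n : a ≠ b) (c : Chart S a b φ) : D a b (-1) = φ (-1) := by
  rw [h.Dch (F := F) (k := -1) (by simp) n c]
  congr 1
  apply ext2 <;> simp [dd_val]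

end full

/-- `c = e • b`, `e ∈ E a` centralises `W a b` and `D a b (-1)` -/
theorem Ln_mem (n : a ≠ b) (hc : c ∈ Ln S a b) (ca : c ≠ a) :
    Ln S a c = Ln S a b ∧ W S a c = W S a b ∧ D a c (-1) = D a b (-1) ∧ (LP p S a b → LP p S a c) := by
  rcases hc with q | ⟨e, he, rfl⟩
  · exact absurd q ca
  have ea : e • a = a := (sy h).E_fix he
  refine ⟨?_, ?_, ?_, ?_⟩
  · unfold Ln
    congr 1
    ext d
    constructor
    · rintro ⟨u, hu, rfl⟩
      exact ⟨u * e, mul_mem hu he, mul_smul _ _ _⟩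
    · rintro ⟨u, hu, rfl⟩
      exact ⟨u * e⁻¹, mul_mem hu (inv_mem he), by rw [mul_smul, inv_smul_smul]⟩
  · ext w
    rw [mem_W, mem_W]
    refine and_congr_right fun hw => ?_
    rw [← mul_smul, ← mem_C.1 hw e he, mul_smul, smul_left_cancel_iff]
  · have q := h.Deqv e (-1) n
    rw [ea] at q
    have s := h.Dsc n (nd1 h) e he
    rw [show ((-1 : ℤ) * -1) = 1 by norm_num, zpow_one, mul_inv_eq_iff_eq_mul] at s
    rw [q, ← s, mul_inv_cancel_right]
  · rintro ⟨F, _, _, _, φ, f⟩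
    have := full_conj h f e
    rw [ea] at this
    exact ⟨F, _, ‹_›, ‹_›, _, this⟩

/-- an element of `C a` that keeps the line: `g • b = e • b` -/
theorem C_Ln (n : a ≠ b) {g : G} (hg : g ∈ C S a) (gb : g • b ∈ Ln S a b) : ∃ e ∈ E S a, ∃ w ∈ W S a b, g = e * w := by
  rcases gb with q | ⟨e, he, q⟩
  · exfalso
    apply n
    have := C_fix h hg
    rw [← this] at q
    exact ((smul_left_cancel_iff g).1 q).symm
  · refine ⟨e, he, e⁻¹ * g, mem_W.2 ⟨mul_mem (inv_mem (E_le_C h a he)) hg, ?_⟩, by group⟩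
    rw [mul_smul, ← q, inv_smul_smul]

theorem EW_inf (n : a ≠ b) {g : G} (he : g ∈ E S a) (hw : g ∈ W S a b) : g = 1 := h.sr n g he hw.2

/-- conjugate the full chart by the element of `full_tr` -/
theorem LP_line (n : a ≠ b) (l : LP p S a b) {c d : Ω} (hc : c ∈ Ln S a b) (hd : d ∈ Ln S a b) (cd : c ≠ d) :
    LP p S c d ∧ Ln S c d = Ln S a b ∧ W S c d = W S a b ∧ D c d (-1) = D a b (-1) ∧ E S c ⊔ E S d = E S a ⊔ E S b := by
  obtain ⟨F, _, _, _, φ, f⟩ := l
  obtain ⟨A, rfl, rfl⟩ := full_tr h n f hc hd cd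
  have f' := full_conj h f (φ A)
  have ev : ∀ B, ((MulAut.conj (φ A)).toMonoidHom.comp φ) B = φ (A * B * A⁻¹) := by
    intro B
    show φ A * φ B * (φ A)⁻¹ = _
    simp
  refine ⟨⟨F, _, ‹_›, ‹_›, _, f'⟩, ?_, ?_, ?_, ?_⟩
  · ext z
    constructor
    · intro hz
      have := full_inv h n f A (show (φ A)⁻¹ • z ∈ Ln S a b by simpa using Ln_smul h (φ A)⁻¹ _ _ hz)
      simpa using this
    · intro hz
      have := Ln_smul h (φ A) _ _ (full_inv h n f A⁻¹ hz)
      simpa using this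
  · ext w
    rw [full_W h cd f', full_W h n f]
    constructor
    · intro q B
      have := q (A⁻¹ * B * A)
      rw [ev] at this
      simpa [mul_assoc] using this
    · intro q B
      rw [ev]
      exact q _
  · rw [D_neg h cd f'.toChart, D_neg h n f.toChart, ev]
    simp
  · rw [← full_range h cd f', ← full_range h n f]
    ext z
    constructor
    · rintro ⟨B, rfl⟩
      exact ⟨_, (ev B).symm⟩
    · rintro ⟨B, rfl⟩
      refine ⟨A⁻¹ * B * A, ?_⟩
      rw [ev]
      simp [mul_assoc]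

theorem LP_of_all (al : ∀ a, ∀ e ∈ E S a, e ≠ 1 → e ∈ S a) (n : a ≠ b) : Trs (E S a) a ∨ LP p S a b := by
  by_cases un : Ln S a b = Set.univ
  · left
    intro x y xa ya
    have hx : x ∈ Ln S a b := un ▸ Set.mem_univ x
    have hy : y ∈ Ln S a b := un ▸ Set.mem_univ y
    rcases hx with q | ⟨e, he, rfl⟩
    · exact absurd q xa
    rcases hy with q | ⟨f, hf, rfl⟩
    · exact absurd q ya
    exact ⟨f * e⁻¹, mul_mem hf (inv_mem he), by rw [mul_smul, inv_smul_smul]⟩
  right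
  have ia : ∀ g ∈ E S a, ∀ c ∈ Ln S a b, g • c ∈ Ln S a b := by
    intro g hg c hc
    rcases hc with rfl | ⟨e, he, rfl⟩
    · exact Or.inl ((sy h).E_fix hg)
    · exact Or.inr ⟨g * e, mul_mem hg he, mul_smul _ _ _⟩
  have key : ∀ x ∈ S a, ∀ y ∈ S b, y • a ∈ Ln S a b ∧ y • x • b ∈ Ln S a b := by
    intro x hx y hy
    obtain ⟨F, _, _, _, φ, ch, rfl, ⟨t, rfl⟩, -⟩ := (sy h).chart n hx hy
    have sub : insert a (Set.range fun t => φ (uu t) • b) ⊆ Ln S a b := by
      rintro _ (rfl | ⟨s, rfl⟩)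
      · exact Or.inl rfl
      · exact Or.inr ⟨_, ch.uE s, rfl⟩
    exact ⟨sub (Chart.inv_pt (sy h) n ch _ (Or.inl rfl)), sub (Chart.inv_pt (sy h) n ch _ (Or.inr ⟨1, rfl⟩))⟩
  have ib : ∀ g ∈ E S b, ∀ c ∈ Ln S a b, g • c ∈ Ln S a b := by
    intro g hg c hc
    by_cases g1 : g = 1
    · simpa [g1] using hc
    have gs := al b g hg g1
    rcases hc with rfl | ⟨e, he, rfl⟩
    · obtain ⟨x, hx⟩ := (sy h).ex c
      exact (key x hx g gs).1
    · by_cases e1 : e = 1
      · rw [e1, one_smul, (sy h).E_fix hg]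
        exact b_mem S a b
      · exact (key e (al a e he e1) g gs).2
  let H : Subgroup G :=
    { carrier := {g | ∀ c, c ∈ Ln S a b ↔ g • c ∈ Ln S a b}
      one_mem' := fun c => by rw [one_smul]
      mul_mem' := fun {f g} hf hg c => by rw [mul_smul, ← hf, ← hg]
      inv_mem' := fun {f} hf c => by rw [hf (f⁻¹ • c), smul_inv_smul] }
  have le : E S a ⊔ E S b ≤ H := by
    refine sup_le (fun g hg c => ⟨ia g hg c, fun q => ?_⟩) (fun g hg c => ⟨ib g hg c, fun q => ?_⟩)
    · simpa using ia _ (inv_mem hg) _ q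
    · simpa using ib _ (inv_mem hg) _ q
  have iv : ∀ g ∈ E S a ⊔ E S b, ∀ c ∈ Ln S a b, g • c ∈ Ln S a b := fun g hg c hc => (le hg c).1 hc
  have r := h.ih (E S a ⊔ E S b) (Ln S a b) un iv (by
    intro c hc
    rcases hc with rfl | ⟨e, he, rfl⟩
    · obtain ⟨x, hx⟩ := (sy h).ex c
      exact ⟨x, hx, mem_sup_left (subset_closure hx)⟩
    · obtain ⟨y, hy⟩ := (sy h).ex b
      exact ⟨_, (sy h).conj e hy, mul_mem (mul_mem (mem_sup_left he) (mem_sup_right (subset_closure hy)))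
        (inv_mem (mem_sup_left he))⟩)
  obtain ⟨F, _, _, _, φ, ch, -, -, -, ua, ub, -⟩ := RCon.chart (sy h) r iv (a_mem S a b) (b_mem S a b) n
  rw [Ep_eq le_sup_left] at ua
  rw [Ep_eq le_sup_right] at ub
  refine ⟨F, _, ‹_›, ‹_›, φ, ch, fun e he => ?_, fun e he => ?_⟩
  · obtain ⟨t, ht⟩ := ua e he
    exact ⟨t, (sr2 h n he (ch.uE t) (ht b (b_mem S a b))).symm⟩
  · obtain ⟨t, ht⟩ := ub e he
    exact ⟨t, (sr2 h n.symm he (ch.lE t) (ht a (a_mem S a b))).symm⟩

/-- `E a` is abelian and normal in the stabiliser -/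
theorem end_of_E (t : Trs (E S a) a) : End G Ω := by
  have : Fact p.Prime := ⟨(sy h).pr⟩
  refine ⟨a, E S a, fun u hu => (sy h).E_fix hu, fun g ga u hu => ?_, ((sy h).E_pg a).isNilpotent, t⟩
  have := (sy h).E_conj g hu
  rwa [ga] at this

end CL.Cq.TorB
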