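/- S3235, disconnected case: torus and scalars. -/
import Mathlib
import Cfsg.Agent.CHEV.Cq.Bas

set_option autoImplicit false
set_option linter.unusedSectionVars false

namespace CL.Cq.TorC

open Subgroup CL.PT CL.PT.L2x

variable {p : ℕ} {G Ω : Type*} [Group G] [MulAction G Ω] [Finite G] [Finite Ω] {S : Ω → Set G} {D : Ω → Ω → ℤ → G}
  {a b c : Ω} {x y : G}

theorem uu_zpow {K : Type} [Field K] (t : K) (k : ℤ) : uu t ^ k = uu (k * t) := by
  cases k with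
  | ofNat n => simpa using uu_pow t n
  | negSucc n => rw [zpow_negSucc, uu_pow, ← uu_neg]; congr 1; push_cast; ring

theorem ll_zpow {K : Type} [Field K] (t : K) (k : ℤ) : ll t ^ k = ll (k * t) := by
  cases k with
  | ofNat n => simpa using ll_pow t n
  | negSucc n => rw [zpow_negSucc, ll_pow, ← ll_neg]; congr 1; push_cast; ring

theorem mu_mat {K : Type} [Field K] {s : K} (hs : s ≠ 0) :
    uu s * ll (-s⁻¹) * uu s = dd s hs * (uu 1 * ll (-1) * uu 1) := by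
  apply ext2 <;> simp [mul_ap, uu_val, ll_val, dd_val, hs]

theorem zpow_mod {e : G} (he : e ^ p = 1) {k l : ℤ} (kl : k ≡ l [ZMOD p]) : e ^ k = e ^ l :=
  zpow_eq_zpow_iff_modEq.2 (kl.of_dvd (Int.natCast_dvd_natCast.2 (orderOf_dvd_of_pow_eq_one he)))

theorem inv_mod (hp : p.Prime) {k : ℤ} (hk : ¬ (p : ℤ) ∣ k) : ∃ l : ℤ, k * l ≡ 1 [ZMOD p] := by
  obtain ⟨u, v, e⟩ := (Nat.prime_iff_prime_int.1 hp).coprime_iff_not_dvd.2 hk
  exact ⟨v, Int.modEq_iff_dvd.2 ⟨u, by linear_combination -e⟩⟩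

theorem nd1 (hp : p.Prime) : ¬ (p : ℤ) ∣ 1 := (Nat.prime_iff_prime_int.1 hp).not_dvd_one

theorem uniq (h : Sys p S) (sr : SR S) (n : a ≠ b) (hx : x ∈ S a) {y' : G} (hy : y ∈ S b) (hy' : y' ∈ S b)
    (d : Bd x y) (d' : Bd x y') : y = y' :=
  (inv_mul_eq_one.1 (sr n.symm _ (mul_mem (inv_mem (subset_closure hy')) (subset_closure hy)) (by
    rw [mul_smul, (h.bd hx hy d).2.2, ← (h.bd hx hy' d').2.2, inv_smul_smul]))).symm

variable (h : Hz p S D)
include h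

theorem D_comm (n : a ≠ b) (k : ℤ) {g : G} (ga : g • a = a) (gb : g • b = b) : Commute g (D a b k) := by
  have := h.Deqv g k n
  rw [ga, gb] at this
  exact mul_inv_eq_iff_eq_mul.1 this.symm

theorem D_swap (n : a ≠ b) (k : ℤ) {g : G} (ga : g • a = b) (gb : g • b = a) : g * D a b k * g⁻¹ = (D a b k)⁻¹ := by
  rw [← h.Deqv g k n, ga, gb, h.Dsym k n]

theorem z_sq (n : a ≠ b) : D a b (-1) * D a b (-1) = 1 := by
  have := mt dvd_neg.1 (nd1 h.pr)
  rw [← h.Dmul n this this, ← h.D1 n]; rfl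

theorem Sc_mul {g g' : G} {k l : ℤ} (s : Sc S a g k) (s' : Sc S a g' l) : Sc S a (g * g') (k * l) := fun e he => by
  rw [zpow_mul, ← s e he, conj_zpow, ← s' e he]; group

theorem Sc_mod {g : G} {k l : ℤ} (s : Sc S a g k) (kl : k ≡ l [ZMOD p]) : Sc S a g l := fun e he =>
  (s e he).trans (zpow_mod (h.E_pow he) kl)

theorem Sc_uniq {g : G} {k l : ℤ} (s : Sc S a g k) (s' : Sc S a g l) : k ≡ l [ZMOD p] := by
  obtain ⟨x, hx⟩ := h.ex a
  have := Fact.mk h.pr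
  rw [← orderOf_eq_prime (h.pow hx) (h.ne hx), ← zpow_eq_zpow_iff_modEq, ← s x (subset_closure hx), s' x (subset_closure hx)]

theorem Sc_one {g : G} : Sc S a g 1 ↔ g ∈ C S a :=
  forall₂_congr fun e _ => by rw [zpow_one, mul_inv_eq_iff_eq_mul, eq_comm]

theorem Sc_conj (u : G) {g : G} {k : ℤ} (s : Sc S a g k) : Sc S (u • a) (u * g * u⁻¹) k := fun e he => by
  have m := h.E_conj u⁻¹ he
  rw [inv_smul_smul] at m
  calc _ = u * (g * (u⁻¹ * e * u⁻¹⁻¹) * g⁻¹) * u⁻¹ := by group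
    _ = _ := by rw [s _ m, conj_zpow]; group

theorem Sc_div {g g' : G} {k : ℤ} (s : Sc S a g k) (s' : Sc S a g' k) : g⁻¹ * g' ∈ C S a := fun e he => by
  calc e * (g⁻¹ * g') = g⁻¹ * (g * e * g⁻¹) * g' := by group
    _ = _ := by rw [s e he, ← s' e he]; group

theorem fix_of (hx : x ∈ S a) {g : G} {k : ℤ} (e : g * x * g⁻¹ = x ^ k) : x ^ k ∈ S a ∧ g • a = a := by
  have m := h.zpow (k := k) hx fun l => h.ne hx (conj_eq_one_iff.1 (e.trans l))
  exact ⟨m, h.pt_eq (e ▸ h.conj g hx) m⟩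

theorem Sc_fix {g : G} {k : ℤ} (_hk : ¬ (p : ℤ) ∣ k) (s : Sc S a g k) : g • a = a := by
  obtain ⟨x, hx⟩ := h.ex a
  exact (fix_of h hx (s x (subset_closure hx))).2

theorem z_mem (n : a ≠ b) : D a b (-1) ∈ W S a b :=
  ⟨(Sc_one h).1 (h.Dsc n (mt dvd_neg.1 (nd1 h.pr))), h.Db _ n⟩

theorem D_eq_one (n : a ≠ b) {k : ℤ} (hk : ¬ (p : ℤ) ∣ k) (e : D a b k = 1) : k * k ≡ 1 [ZMOD p] :=
  Sc_uniq h (e ▸ h.Dsc n hk) ((Sc_one h).2 (one_mem _))

theorem mu_pow (n : a ≠ b) (hx : x ∈ S a) (hy : y ∈ S b) (d : Bd x y) {k l : ℤ} (kl : k * l ≡ 1 [ZMOD p]) :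
    Bd (x ^ k) (y ^ l) ∧ x ^ k * y ^ l * x ^ k = D a b k * (x * y * x) := by
  obtain ⟨F, _, _, _, φ, c, rfl, -⟩ := h.chart n hx hy
  obtain rfl := uniq h.toSys h.sr n hx hy c.l1 d (by simpa using bd_uu φ (one_ne_zero (α := F)))
  have e : (k : F) * l = 1 := by exact_mod_cast (CharP.intCast_eq_intCast F p).2 kl
  have k0 := left_ne_zero_of_mul_eq_one e
  rw [← map_zpow, ← map_zpow, uu_zpow, ll_zpow, mul_one, mul_neg_one, eq_inv_of_mul_eq_one_right e, h.Dch k0 n c]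
  exact ⟨bd_uu φ k0, by simp only [← map_mul, mu_mat k0]⟩

theorem mu_sq (n : a ≠ b) (hx : x ∈ S a) (hy : y ∈ S b) (d : Bd x y) : (x * y * x) * (x * y * x) = D a b (-1) := by
  rw [h.Dneg n hx hy d]
  calc _ = (x * y * x) * (y * x * y) := by rw [← show x * y * x = y * x * y from d]
    _ = _ := by simp only [pow_succ, pow_zero, one_mul, mul_assoc]

theorem eig (n : a ≠ b) (hx : x ∈ S a) (hy : y ∈ S b) (d : Bd x y) {g : G} {k l : ℤ} (kl : k * l ≡ 1 [ZMOD p])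
    (e : g * x * g⁻¹ = x ^ k) (gb : g • b = b) : g * y * g⁻¹ = y ^ l := by
  refine uniq h.toSys h.sr n (fix_of h hx e).1 (gb ▸ h.conj g hy) (h.zpow hy fun q => h.ne hy ?_) ?_
    (mu_pow h n hx hy d kl).1
  · rw [← zpow_one y, ← zpow_mod (h.pow hy) kl, mul_comm, zpow_mul, q, one_zpow]
  · rw [← e]
    simpa [Bd, mul_assoc] using congrArg (· * g⁻¹) d

theorem sc_inv (n : a ≠ b) {g : G} {k l : ℤ} (kl : k * l ≡ 1 [ZMOD p]) (s : Sc S a g k) (gb : g • b = b) :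
    Sc S b g l := fun e he => by
  induction he using closure_induction with
  | mem y hy =>
    obtain ⟨x₀, h0⟩ := h.ex a
    obtain ⟨x, hx, -, d, -⟩ := h.partner n.symm hy h0
    exact eig h n hx hy d.symm kl (s x (subset_closure hx)) gb
  | one => simp
  | mul u v hu hv e f => rw [(h.E_comm hu hv).mul_zpow, ← e, ← f]; group
  | inv u _ e => rw [inv_zpow, ← e]; group

theorem sc_fix {g : G} {k : ℤ} (hk : ¬ (p : ℤ) ∣ k) (k2 : ¬ k * k ≡ 1 [ZMOD p]) (s : Sc S a g k) (hb : b ≠ a) (hc : c ≠ a)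
    (gb : g • b = b) (gc : g • c = c) : b = c := by
  by_contra n
  obtain ⟨l, kl⟩ := inv_mod h.pr hk
  exact k2 (((Sc_uniq h (sc_inv h n (mul_comm k l ▸ kl) (sc_inv h hb.symm kl s gb) gc)
    (sc_inv h hc.symm kl s gc)).mul_left k).trans kl)

theorem C_fix {g : G} (hg : g ∈ C S a) : g • a = a := Sc_fix h (nd1 h.pr) ((Sc_one h).2 hg)

theorem E_le_C (a : Ω) : E S a ≤ C S a := fun _ hf _ he => h.E_comm he hf

theorem C_conj (u : G) {g : G} (hg : g ∈ C S a) : u * g * u⁻¹ ∈ C S (u • a) :=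
  (Sc_one h).1 (Sc_conj h u ((Sc_one h).2 hg))

theorem W_le (n : a ≠ b) : W S a b ≤ W S b a := fun _ hw =>
  ⟨(Sc_one h).1 (sc_inv h n (k := 1) (l := 1) rfl ((Sc_one h).2 hw.1) hw.2), C_fix h hw.1⟩

theorem W_symm (n : a ≠ b) : W S a b = W S b a := le_antisymm (W_le h n) (W_le h n.symm)

theorem sc_pm {g : G} {k : ℤ} (hk : k = 1 ∨ k = -1) (s : Sc S a g k) (gc : g • c = c) : Sc S c g k := by
  by_cases n : a = c
  · exact n ▸ s
  · exact sc_inv h n (by rcases hk with rfl | rfl <;> rfl) s gc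

end CL.Cq.TorC
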