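/- S3235, disconnected case: centralisers (`cen` .. `fix_plus` of `Cq/Tor`). -/
import Mathlib
import Cfsg.Agent.CHEV.Cq.TorB

set_option autoImplicit false
set_option linter.unusedSectionVars false
set_option linter.unusedVariables false

namespace CL.Cq.TorD

open Subgroup CL.PT CL.PT.L2x

variable {p : ℕ} {G Ω : Type*} [Group G] [MulAction G Ω] [Finite G] [Finite Ω] {S : Ω → Set G} {D : Ω → Ω → ℤ → G}
  {a b c : Ω} {x y : G}

variable (h : Hz p S D)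
include h

theorem cpart (n : a ≠ b) (hx : x ∈ S a) (hy : y ∈ S b) (d : Bd x y) {w : G} (cm : Commute w x) (wb : w • b = b) :
    Commute w y := by
  have m := (TorB.sy h).conj w hy
  rw [wb] at m
  have d' : Bd x (w * y * w⁻¹) := by
    have e1 : x = w * x * w⁻¹ := by rw [cm.eq, mul_inv_cancel_right]
    unfold Bd at d ⊢
    calc x * (w * y * w⁻¹) * x = (w * x * w⁻¹) * (w * y * w⁻¹) * (w * x * w⁻¹) := by rw [← e1]
      _ = w * (x * y * x) * w⁻¹ := by group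
      _ = (w * y * w⁻¹) * (w * x * w⁻¹) * (w * y * w⁻¹) := by rw [d]; group
      _ = _ := by rw [← e1]
  have := TorB.uniq h n hx hy m d d'
  exact (eq_mul_inv_iff_mul_eq.1 this).symm

theorem cen {R : Set G} (r1 : ∃ w ∈ R, w ≠ 1) (n : a ≠ b) (rb : ∀ w ∈ R, w • b = b) (hx : x ∈ S a) (rx : ∀ w ∈ R, Commute w x) :
    ∃ (F : Type) (_ : Field F) (_ : Fintype F) (_ : CharP F p) (φ : Matrix.SpecialLinearGroup (Fin 2) F →* G),
      Chart S a b φ ∧ φ (uu 1) = x ∧ (∀ w ∈ R, ∀ A, Commute w (φ A)) ∧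
      (∀ e ∈ Ep S (centralizer R) a, ∃ t, φ (uu t) = e) ∧ (∀ e ∈ Ep S (centralizer R) b, ∃ t, φ (ll t) = e) ∧
      ({c : Ω | ∀ w ∈ R, w • c = c} = insert a (Set.range fun t => φ (uu t) • b) ∨
        ({c : Ω | ∀ w ∈ R, w • c = c}.ncard = Fintype.card F ^ 3 + 1 ∧
          ∃ c ∈ {c : Ω | ∀ w ∈ R, w • c = c}, D a b (-1) • c ≠ c)) := by
  have sy := TorB.sy h
  set Φ : Set Ω := {c : Ω | ∀ w ∈ R, w • c = c} with hΦ
  have nu : Φ ≠ Set.univ := by
    intro q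
    obtain ⟨w, hw, w1⟩ := r1
    exact w1 (h.faith w fun c => (show c ∈ Φ from q ▸ Set.mem_univ c) w hw)
  have iv : ∀ g ∈ centralizer R, ∀ c ∈ Φ, g • c ∈ Φ := by
    intro g hg c hc w hw
    rw [← mul_smul, mem_centralizer_iff.1 hg w hw, mul_smul, hc w hw]
  have xX : x ∈ centralizer R := mem_centralizer_iff.2 fun w hw => (rx w hw).eq
  have ha : a ∈ Φ := fun w hw => TorB.cfix h hx (rx w hw)
  have hb : b ∈ Φ := rb
  have r := h.ih (centralizer R) Φ nu iv (by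
    intro c hc
    by_cases ca : a = c
    · exact ⟨x, ca ▸ hx, xX⟩
    · obtain ⟨y, hy⟩ := sy.ex c
      obtain ⟨y', hy', -, d, -⟩ := sy.partner ca hx hy
      exact ⟨y', hy', mem_centralizer_iff.2 fun w hw => (cpart h ca hx hy' d (rx w hw) (hc w hw)).eq⟩)
  obtain ⟨F, _, _, _, φ, ch, le, -, -, ua, ub, ct⟩ := RCon.chart sy r iv ha hb n
  have ua' : ∀ e ∈ Ep S (centralizer R) a, ∃ t, φ (uu t) = e := fun e he =>
    let ⟨t, ht⟩ := ua e he; ⟨t, (TorB.sr2 h n (Ep_le _ _ _ he) (ch.uE t) (ht b hb)).symm⟩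
  have ub' : ∀ e ∈ Ep S (centralizer R) b, ∃ t, φ (ll t) = e := fun e he =>
    let ⟨t, ht⟩ := ub e he; ⟨t, (TorB.sr2 h n.symm (Ep_le _ _ _ he) (ch.lE t) (ht a ha)).symm⟩
  obtain ⟨t₀, h0⟩ := ua' x (subset_closure ⟨hx, xX⟩)
  have t0 : t₀ ≠ 0 := by
    rintro rfl
    rw [uu_zero, map_one] at h0
    exact sy.ne hx h0.symm
  obtain ⟨ψ, cψ, eu, el, -, er⟩ := Chart.rescale sy n ch (t₀ := t₀) (by rw [h0]; exact hx)
  refine ⟨F, _, ‹_›, ‹_›, ψ, cψ, by rw [eu, one_mul, h0], fun w hw A => ?_, fun e he => ?_, fun e he => ?_, ?_⟩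
  · have : ψ A ∈ φ.range := er ▸ ⟨A, rfl⟩
    exact mem_centralizer_iff.1 (le this) w hw
  · obtain ⟨t, rfl⟩ := ua' e he
    exact ⟨t / t₀, by rw [eu, div_mul_cancel₀ _ t0]⟩
  · obtain ⟨t, rfl⟩ := ub' e he
    exact ⟨t * t₀, by rw [el, mul_div_cancel_right₀ _ t0]⟩
  · rcases ct with q | ⟨q, c, hc, q'⟩
    · left
      rw [q]
      congr 1
      ext c
      constructor
      · rintro ⟨t, rfl⟩
        exact ⟨t / t₀, by simp only [eu, div_mul_cancel₀ _ t0]⟩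
      · rintro ⟨t, rfl⟩
        exact ⟨t * t₀, by simp only [eu]⟩
    · exact Or.inr ⟨q, c, hc, by rwa [TorB.D_neg h n ch]⟩

theorem W_comm (n : a ≠ b) {w : G} (hw : w ∈ W S a b) : (∀ e ∈ E S a, Commute w e) ∧ ∀ e ∈ E S b, Commute w e := by
  have sy := TorB.sy h
  have ca : ∀ e ∈ E S a, Commute w e := fun e he => Eq.symm (mem_C.1 hw.1 e he)
  refine ⟨ca, fun e he => ?_⟩
  have : E S b ≤ centralizer {w} := by
    refine (closure_le _).2 fun y hy => ?_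
    obtain ⟨x, hx⟩ := sy.ex a
    obtain ⟨x', hx', -, d, -⟩ := sy.partner n.symm hy hx
    exact mem_centralizer_singleton_iff.2 (cpart h n hx' hy d.symm (ca _ (subset_closure hx')) hw.2).symm.eq
  exact Eq.symm (mem_centralizer_singleton_iff.1 (this he))

theorem cenW {R : Set G} (r1 : ∃ w ∈ R, w ≠ 1) (n : a ≠ b) (rw : ∀ w ∈ R, w ∈ W S a b) :
    LP p S a b ∧ ({c : Ω | ∀ w ∈ R, w • c = c} = Ln S a b ∨
      ({c : Ω | ∀ w ∈ R, w • c = c}.ncard = Nat.card (E S a) ^ 3 + 1 ∧ Ln S a b ⊆ {c : Ω | ∀ w ∈ R, w • c = c} ∧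
        ∃ c ∈ {c : Ω | ∀ w ∈ R, w • c = c}, D a b (-1) • c ≠ c)) := by
  have sy := TorB.sy h
  obtain ⟨x, hx⟩ := sy.ex a
  have la : E S a ≤ centralizer R := fun e he => mem_centralizer_iff.2 fun w hw => ((W_comm h n (rw w hw)).1 e he).eq
  have lb : E S b ≤ centralizer R := fun e he => mem_centralizer_iff.2 fun w hw => ((W_comm h n (rw w hw)).2 e he).eq
  obtain ⟨F, _, _, _, φ, ch, -, -, ua, ub, ct⟩ := cen h r1 n (fun w hw => (rw w hw).2) hx
    (fun w hw => (W_comm h n (rw w hw)).1 x (subset_closure hx))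
  rw [Ep_eq la] at ua
  rw [Ep_eq lb] at ub
  have f : Full S a b φ := ⟨ch, ua, ub⟩
  refine ⟨⟨F, _, ‹_›, ‹_›, φ, f⟩, ?_⟩
  rcases ct with q | ⟨q, q'⟩
  · exact Or.inl (q.trans (TorB.full_Ln h n f).symm)
  · refine Or.inr ⟨by rw [q, TorB.full_card h n f], ?_, q'⟩
    rintro c (rfl | ⟨e, he, rfl⟩) w hw
    · exact TorB.C_fix h (rw w hw).1
    · have wb : w • b = b := (rw w hw).2
      rw [← mul_smul, ((W_comm h n (rw w hw)).1 e he).eq, mul_smul, wb]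

omit h [Finite G] [Finite Ω] in
theorem fx_eq (w : G) : {c : Ω | ∀ v ∈ ({w} : Set G), v • c = c} = Fx Ω w := by
  ext c
  simp [Fx]

theorem fixW (n : a ≠ b) (z1 : D a b (-1) = 1) {w : G} (hw : w ∈ W S a b) (w1 : w ≠ 1) : Fx Ω w = Ln S a b := by
  obtain ⟨-, q | ⟨-, -, c, -, q⟩⟩ := cenW h (R := {w}) ⟨w, rfl, w1⟩ n (by rintro _ rfl; exact hw)
  · rw [← fx_eq, q]
  · exact absurd (by rw [z1, one_smul]) q

theorem z_mem (n : a ≠ b) : D a b (-1) ∈ W S a b := by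
  refine mem_W.2 ⟨mem_C.2 fun e he => ?_, h.Db _ n⟩
  have s := h.Dsc n (TorB.nd1 h) e he
  rw [show ((-1 : ℤ) * -1) = 1 by norm_num, zpow_one, mul_inv_eq_iff_eq_mul] at s
  exact s.symm

theorem fixz (n : a ≠ b) (z1 : D a b (-1) ≠ 1) : LP p S a b ∧ Fx Ω (D a b (-1)) = Ln S a b := by
  obtain ⟨l, q | ⟨-, -, c, hc, q⟩⟩ := cenW h (R := {D a b (-1)}) ⟨_, rfl, z1⟩ n (by rintro _ rfl; exact z_mem h n)
  · exact ⟨l, by rw [← fx_eq, q]⟩
  · exact absurd (hc _ rfl) q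

theorem fix_plus (n : a ≠ b) (z1 : D a b (-1) = 1) {s t : G} (s1 : s ≠ 1) (sb : s • b = b) (hx : x ∈ S a) (sx : Commute s x)
    (ts : Sc S a t (-1)) (tb : t • b = b) : Fx Ω s ⊆ Ln S a b ∧ ∀ c, s • c = c → t • c = c → c = a ∨ c = b := by
  have sy := TorB.sy h
  obtain ⟨F, _, _, _, φ, ch, -, -, -, -, q | ⟨-, c, -, q⟩⟩ := cen h (R := {s}) ⟨s, rfl, s1⟩ n (by rintro _ rfl; exact sb) hx
    (by rintro _ rfl; exact sx)
  swap
  · exact absurd (by rw [z1, one_smul]) q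
  rw [fx_eq] at q
  refine ⟨?_, fun c sc tc => ?_⟩
  · rw [q]
    rintro _ (rfl | ⟨u, rfl⟩)
    · exact Or.inl rfl
    · exact Or.inr ⟨_, ch.uE u, rfl⟩
  · have hc : c ∈ Fx Ω s := sc
    rw [q] at hc
    rcases hc with rfl | ⟨u, rfl⟩
    · exact Or.inl rfl
    · right
      have e := ts _ (ch.uE u)
      rw [zpow_neg_one, mul_inv_eq_iff_eq_mul, ← map_inv, ← uu_neg] at e
      have tc : t • φ (uu u) • b = φ (uu u) • b := tc
      rw [← mul_smul, e, mul_smul, tb] at tc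
      have := Chart.pt_inj sy n ch tc
      have u0 : u = 0 := by
        have h2 := (cast_ne (K := F) sy.pr sy.p5).1
        have : 2 * u = 0 := by linear_combination -this
        exact (mul_eq_zero.1 this).resolve_left h2
      show φ (uu u) • b = b
      rw [u0, uu_zero, map_one, one_smul]

end CL.Cq.TorD
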