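/- S3235, disconnected case: the lemma PC. -/
import Mathlib
import Cfsg.Agent.CHEV.Cq.ZL0
import Cfsg.Agent.SOLV.MinNormal
import Cfsg.Agent.PLOC.FrobeniusNPC

set_option autoImplicit false
set_option maxHeartbeats 400000

namespace CL.Cq.ZLb

open Subgroup

variable {Γ : Type*} [Group Γ] [Finite Γ]

theorem exists_fac {O E M : Subgroup Γ} {A : Set Γ} (sol : Group.IsSolvable O) (MO : M ≤ O)
    (hM : ∀ g, g ∈ O ∨ g ∈ A → Nm g M) (hE : ∀ g, g ∈ O ∨ g ∈ A → Nm g E) (lt : E < M) :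
    ∃ s M₂, Fac O A s M M₂ ∧ E ≤ M₂ := by
  obtain ⟨M₂, ⟨h1, h2, h3⟩, mx⟩ := exists_maximal_of_wellFoundedGT (fun L : Subgroup Γ => E ≤ L ∧ L < M ∧
    ∀ g, g ∈ O ∨ g ∈ A → Nm g L) ⟨E, le_rfl, lt, hE⟩
  have mn : ∀ L, M₂ ≤ L → L ≤ M → (∀ g, g ∈ O ∨ g ∈ A → Nm g L) → L = M₂ ∨ L = M := fun L a b c =>
    b.eq_or_lt.symm.imp (fun q => (mx ⟨h1.trans a, q, c⟩ a).antisymm a) id
  have : (M₂.subgroupOf M).Normal := ⟨fun x hx g => h3 g (Or.inl (MO g.2)) x hx⟩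
  have : Group.IsSolvable M := solvable_of_solvable_injective (inclusion_injective MO)
  have : Nontrivial (M ⧸ M₂.subgroupOf M) := QuotientGroup.nontrivial_iff.2 fun e => h2.2 (subgroupOf_eq_top.1 e)
  obtain ⟨N, hN, pr⟩ := CL.exists_normal_index_prime (M ⧸ M₂.subgroupOf M)
  have := Fact.mk pr
  have cy : IsCyclic ((M ⧸ M₂.subgroupOf M) ⧸ N) := isCyclic_of_prime_card (p := N.index) rfl
  let S : Set Γ := {z | z ∈ M₂ ∨ (∃ x ∈ M, z = x ^ N.index) ∨ ∃ x ∈ M, ∃ y ∈ M, z = x * y * x⁻¹ * y⁻¹}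
  have le : closure S ≤ (N.comap (QuotientGroup.mk' _)).map M.subtype := (closure_le _).2 (by
    rintro z (hz | ⟨x, hx, rfl⟩ | ⟨x, hx, y, hy, rfl⟩)
    · refine ⟨⟨z, h2.le hz⟩, ?_, rfl⟩
      rw [SetLike.mem_coe, mem_comap, QuotientGroup.mk'_apply,
        (QuotientGroup.eq_one_iff (N := M₂.subgroupOf M) _).2 (by exact hz)]
      exact one_mem _
    · exact ⟨⟨x, hx⟩ ^ N.index, by rw [SetLike.mem_coe, mem_comap, map_pow]; exact N.pow_index_mem _, rfl⟩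
    · refine ⟨⟨x, hx⟩ * ⟨y, hy⟩ * ⟨x, hx⟩⁻¹ * ⟨y, hy⟩⁻¹, mem_comap.2 ((QuotientGroup.eq_one_iff (N := N) _).1 ?_), rfl⟩
      simp only [map_mul, map_inv, QuotientGroup.mk_mul, QuotientGroup.mk_inv]
      rw [cy.commutative.1.1 (QuotientGroup.mk (QuotientGroup.mk' _ ⟨x, hx⟩))]
      group)
  have e : closure S = M₂ := (mn _ (fun z hz => subset_closure (Or.inl hz)) (le.trans (map_subtype_le _))
    fun g hg => (closure_le ((closure S).comap (MulAut.conj g).toMonoidHom)).2 (by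
      rintro z (hz | ⟨x, hx, rfl⟩ | ⟨x, hx, y, hy, rfl⟩) <;> apply Subgroup.subset_closure
      · exact Or.inl (h3 g hg z hz)
      · exact Or.inr (Or.inl ⟨_, hM g hg x hx, conj_pow.symm⟩)
      · exact Or.inr (Or.inr ⟨_, hM g hg x hx, _, hM g hg y hy, by simp [mul_assoc]⟩))).resolve_right fun q => by
    refine pr.ne_one (index_eq_one.2 ((eq_top_iff' _).2 fun y => ?_))
    obtain ⟨x, rfl⟩ := QuotientGroup.mk'_surjective _ y
    obtain ⟨z, hz, e⟩ := le (q.ge x.2)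
    exact (Subtype.ext e : z = x) ▸ hz
  exact ⟨_, M₂, ⟨pr, h2, MO, hM, h3, mn, fun x hx => e.le (subset_closure (Or.inr (Or.inl ⟨x, hx, rfl⟩))),
    fun x hx y hy => e.le (subset_closure (Or.inr (Or.inr ⟨x, hx, y, hy, rfl⟩)))⟩, h1⟩

theorem pc {O E : Subgroup Γ} {A : Set Γ} {p : ℕ} (hp : p.Prime) (sol : Group.IsSolvable O) (hA : ∀ g ∈ A, Nm g O) (EO : E ≤ O)
    (hE : ∀ g ∈ A, Nm g E) (_Ep : IsPGroup p E) (Ec : ∀ e ∈ E, ∀ x ∈ O, Commute e x)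
    (h : ∀ s M₁ M₂, s ≠ p → Fac O A s M₁ M₂ → E ≤ M₂ → ∀ g ∈ O, Cen g M₁ M₂) :
    ∃ P : Subgroup Γ, P ≤ O ∧ IsPGroup p P ∧ (∀ x ∈ O, (∃ k, x ^ p ^ k = 1) → x ∈ P) ∧
      ∃ c, Subgroup.lowerCentralSeries O c ≤ P := by
  have nE : ∀ g, g ∈ O ∨ g ∈ A → Nm g E := fun g hg => hg.elim
    (fun hg e he => by rwa [← (Ec e he g hg).eq, mul_inv_cancel_right]) (hE g)
  have cen : ∀ s : ℕ, s.Prime → s ≠ p → ∀ Q : Subgroup Γ, IsPGroup s Q → ∀ g ∈ O, Nm g Q → (orderOf g).Coprime s →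
      ∀ M : Subgroup Γ, M ≤ O → (∀ g, g ∈ O ∨ g ∈ A → Nm g M) → E ≤ M → ∀ x ∈ Q, x ∈ M → x * g = g * x := by
    intro s hs sp Q hQ g hg gQ cop M
    induction M using WellFoundedLT.induction with
    | ind M ih =>
    intro MO hM EM x hx xM
    rcases EM.eq_or_lt with rfl | lt
    · exact Ec x xM g hg
    obtain ⟨t, M₂, f, EM₂⟩ := exists_fac sol MO hM nE lt
    have ih := ih M₂ f.lt (f.lt.le.trans MO) f.n2 EM₂
    by_cases ts : t = s
    · have cQ : g * x * g⁻¹ * x⁻¹ ∈ Q := mul_mem (gQ x hx) (inv_mem hx)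
      have c : Commute (g * x * g⁻¹ * x⁻¹)⁻¹ g := Commute.inv_left (ih _ cQ (h t M M₂ (ts ▸ sp) f EM₂ g hg x xM))
      have e := c.mul_pow (orderOf g)
      rw [show (g * x * g⁻¹ * x⁻¹)⁻¹ * g = x * g * x⁻¹ by group, conj_pow, pow_orderOf_eq_one, mul_one,
        mul_one, mul_inv_cancel, inv_pow, eq_comm, inv_eq_one] at e
      obtain ⟨k, hk⟩ := hQ ⟨_, cQ⟩
      have o := orderOf_eq_one_iff.1 (Nat.eq_one_of_dvd_coprimes (cop.pow_right k) (orderOf_dvd_of_pow_eq_one e)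
        (orderOf_dvd_of_pow_eq_one (congrArg Subtype.val hk)))
      rw [mul_inv_eq_one, mul_inv_eq_iff_eq_mul] at o
      exact o.symm
    · obtain ⟨k, hk⟩ := hQ ⟨x, hx⟩
      obtain ⟨m, hm⟩ := exists_pow_eq_self_of_coprime (x := x) (n := t)
        ((((Nat.coprime_primes f.pr hs).2 ts).pow_right k).coprime_dvd_right
          (orderOf_dvd_of_pow_eq_one (congrArg Subtype.val hk)))
      exact ih x hx (hm ▸ pow_mem (f.pw x xM) m)
  have npc : ∀ s : {s : ℕ // s.Prime ∧ s ≠ p}, ∃ K : Subgroup Γ, (Nat.card K).Coprime s ∧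
      (∀ x ∈ O, (orderOf x).Coprime s → x ∈ K) ∧ ∃ c, O.lowerCentralSeries c ≤ K := fun ⟨s, hs, sp⟩ => by
    have := Fact.mk hs
    obtain ⟨P⟩ : Nonempty (Sylow s O) := inferInstance
    obtain ⟨N, hN, c, k, hk⟩ := CL.hasNPC_iff_exists_normal_index.1 ((CL.Tr.hasNPC_iff_forall_le_sylow P).2
      fun Q hQ g hg cop x hx => Subtype.ext (cen s hs sp (Q.map O.subtype) ((P.isPGroup'.to_le hQ).map _) g g.2
        (by
          rintro _ ⟨y, hy, rfl⟩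
          exact ⟨_, (mem_normalizer_iff.1 hg y).1 hy, rfl⟩) (by rwa [Subgroup.orderOf_coe]) O le_rfl
        (fun g hg => hg.elim (fun hg x hx => mul_mem (mul_mem hg hx) (inv_mem hg)) (hA g)) EO x ⟨x, hx, rfl⟩ x.2))
    refine ⟨N.map O.subtype, by rwa [card_subtype], fun x hx cop => ⟨⟨x, hx⟩, CL.mem_of_coprime_index ?_, rfl⟩, ?_⟩
    · rw [hk, ← Subgroup.orderOf_coe]
      exact cop.pow_right k
    · obtain ⟨n, hn⟩ := Subgroup.nilpotent_iff_lowerCentralSeries.1 (IsPGroup.of_card (G := O ⧸ N) hk).isNilpotent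
      refine ⟨n, top_subtype_lowerCentralSeries O n ▸ map_mono ?_⟩
      rw [← QuotientGroup.ker_mk' N, ← Subgroup.map_eq_bot_iff, map_lowerCentralSeries,
        map_top_of_surjective _ (QuotientGroup.mk'_surjective N), hn]
  choose K k1 k2 k3 using npc
  obtain ⟨_, ⟨c, rfl⟩, mn⟩ := wellFounded_lt.has_min (Set.range O.lowerCentralSeries) ⟨_, 0, rfl⟩
  refine ⟨O ⊓ ⨅ s, K s, inf_le_left, fun x => ?_, fun x hx ⟨k, hk⟩ => ⟨hx, mem_iInf.2 fun s => k2 s x hx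
    ((((Nat.coprime_primes hp s.2.1).2 s.2.2.symm).pow_left k).coprime_dvd_left (orderOf_dvd_of_pow_eq_one hk))⟩,
    c, le_inf (O.lowerCentralSeries_antitone (Nat.zero_le c)) (le_iInf fun s => ?_)⟩
  · refine ⟨_, orderOf_dvd_iff_pow_eq_one.1 (Nat.eq_prime_pow_of_unique_prime_dvd (orderOf_pos x).ne'
      fun {s} hs d => by_contra fun sp => ?_).dvd⟩
    rw [← Subgroup.orderOf_coe] at d
    exact hs.ne_one (Nat.eq_one_of_dvd_coprimes (k1 ⟨s, hs, sp⟩)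
      (d.trans (orderOf_dvd_natCard _ (mem_iInf.1 x.2.2 _))) dvd_rfl)
  · obtain ⟨n, hn⟩ := k3 s
    exact ((O.lowerCentralSeries_antitone (le_max_left c n)).eq_of_not_lt (mn _ ⟨_, rfl⟩)).ge.trans
      ((O.lowerCentralSeries_antitone (le_max_right c n)).trans hn)

end CL.Cq.ZLb
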